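import Cfsg.Agent.Lib.ValueCriterion.Generation
import Cfsg.Agent.Lib.Fitting.Nilpotent
import Cfsg.Agent.Lib.Core.Fitting

/-!
# Values of prime-power order and the Fitting subgroup
-/

set_option autoImplicit false

namespace Cfsg.Agent.Lib.ValueCriterion

open scoped commutatorElement
open Cfsg

universe u

variable {G : Type u} [Group G]

/-- If the Fitting subgroup contains its centraliser, it contains every element of prime-power
order that centralises the normal subgroups of coprime order. -/
theorem mem_fitting_of_value [Finite G] {k : ℕ} (hG : Good k G)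
    (hF : Subgroup.centralizer (fittingSubgroup G : Set G) ≤ fittingSubgroup G)
    {r : ℕ} [hr : Fact r.Prime] {y : G}
    (hy : ∀ R : Subgroup G, R.Normal → (Nat.card R).Coprime r → ∀ z ∈ R, Commute z y)
    {n : ℕ} (hyo : orderOf y = r ^ n) :
    y ∈ fittingSubgroup G := by
  classical
  set F := fittingSubgroup G with hFdef
  haveI hFn : F.Normal := Lib.Fitting.fittingSubgroup_normal
  haveI hFnil : Group.IsNilpotent F := Lib.Fitting.fittingSubgroup_isNilpotent
  haveI : (pCore r G).Normal := Subgroup.sSup_normal _ (fun N h => h.1)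
  haveI : (pPrimeCore r G).Normal := Subgroup.sSup_normal _ (fun N h => h.1)
  set X := pPrimeCore r G ⊓ F with hX
  haveI : X.Normal := inferInstanceAs (pPrimeCore r G ⊓ F).Normal
  have hOF : pCore r G ≤ F := Lib.Fitting.pCore_le_fittingSubgroup r
  have hFdec : ∀ f ∈ F, ∃ a ∈ pCore r G, ∃ b ∈ X, f = a * b := by
    intro f hf
    obtain ⟨a, ha, b, hb, rfl⟩ :=
      Subgroup.mem_sup_of_normal_right.mp (Lib.Fitting.nilpotent_normal_le_cores (N := F) r hf)
    refine ⟨a, ha, b, ⟨hb, ?_⟩, rfl⟩
    have := mul_mem (inv_mem (hOF ha)) hf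
    rwa [inv_mul_cancel_left] at this
  have hXcard : (Nat.card X).Coprime r :=
    (PSolvable.pPrimeCore_coprime (p := r) (G := G)).coprime_dvd_left
      (Subgroup.card_dvd_of_le inf_le_left)
  set C := Subgroup.centralizer (X : Set G) with hC
  haveI : C.Normal := Subgroup.normal_centralizer
  have hyC : y ∈ C := Subgroup.mem_centralizer_iff.mpr fun x hx =>
    (hy X inferInstance hXcard x hx).eq
  -- values of the other primes lie in `F`
  set N' := F.subgroupOf C with hN'
  haveI : N'.Normal := Subgroup.normal_subgroupOf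
  have hother : ∀ s : ℕ, s.Prime → s ≠ r → primeValues s k C ≤ N' := by
    intro s hs hsr
    haveI := Fact.mk hs
    refine (Subgroup.closure_le _).mpr ?_
    rintro z ⟨hz, m, hm⟩
    show (z : G) ∈ F
    refine hF (Subgroup.mem_centralizer_iff.mpr fun f hf => ?_)
    obtain ⟨a, ha, b, hb, rfl⟩ := hFdec f hf
    have hzv : Val k (z : G) := val_map C.subtype hz
    have h1 : Commute a (z : G) := hG.commute_of_normalizes hzv
      (R := pCore r G) (by rw [Subgroup.normalizer_eq_top]; trivial)
      (by
        rw [Subgroup.orderOf_coe, hm]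
        obtain ⟨j, hj⟩ := IsPGroup.iff_card.mp (PSolvable.pCore_isPGroup (p := r) (G := G))
        rw [hj]
        exact Nat.Coprime.pow _ _ ((Nat.coprime_primes hr.out hs).mpr hsr.symm)) ha
    have h2 : Commute b (z : G) := Subgroup.mem_centralizer_iff.mp z.2 b hb
    exact (h1.mul_left h2).eq
  -- the intersection of the residuals
  set K : Subgroup (C ⧸ N') :=
    ⨅ s : {s : ℕ // s.Prime ∧ s ≠ r}, Cfsg.pResidual (s : ℕ) (C ⧸ N') with hK
  haveI : K.Normal := Subgroup.normal_iInf_normal fun s => by
    haveI := Fact.mk s.2.1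
    exact Transfer.pResidual_normal
  set π := QuotientGroup.mk' N' with hπ
  have hyK : π ⟨y, hyC⟩ ∈ K := Subgroup.mem_iInf.mpr fun s => by
    haveI := Fact.mk s.2.1
    refine Transfer.mem_pResidual_of_coprime ?_
    refine Nat.Coprime.coprime_dvd_left (orderOf_map_dvd π _) ?_
    rw [← Subgroup.orderOf_coe, hyo]
    exact ((Nat.coprime_primes hr.out s.2.1).mpr s.2.2.symm).pow_left n
  have hKr : ∀ x ∈ K, ∃ j : ℕ, x ^ r ^ j = 1 := by
    intro x hx
    refine ⟨(orderOf x).primeFactorsList.length, orderOf_dvd_iff_pow_eq_one.mp ?_⟩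
    have hall : ∀ s : ℕ, s.Prime → s ∣ orderOf x → s = r := by
      intro s hs hsd
      by_contra hne
      haveI := Fact.mk hs
      exact Transfer.hasNormalPComplement_iff.mp
        (hasNormalPComplement_quotient s k N' (hother s hs hne))
        (hsd.trans (Subgroup.orderOf_dvd_natCard _ (Subgroup.mem_iInf.mp hx ⟨s, hs, hne⟩)))
    exact dvd_of_eq (Nat.eq_prime_pow_of_unique_prime_dvd (orderOf_pos x).ne' fun hs hsd => hall _ hs hsd)
  -- its preimage is nilpotent and subnormal
  set M : Subgroup G := (K.comap π).map C.subtype with hM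
  have hMC : M ≤ C := Subgroup.map_subtype_le _
  have hMsn : M.IsSubnormal :=
    ((inferInstance : K.Normal).comap π).isSubnormal.trans' (inferInstance : C.Normal).isSubnormal
  have hMnil : Group.IsNilpotent M := by
    let ψ : M →* G ⧸ X := (QuotientGroup.mk' X).comp M.subtype
    have hrange : IsPGroup r ψ.range := by
      rintro ⟨_, ⟨⟨_, m, hm, rfl⟩, rfl⟩⟩
      obtain ⟨j, hj⟩ := hKr (π m) hm
      have hF' : ((m : G) ^ r ^ j) ∈ F := by
        have h1 : m ^ r ^ j ∈ N' := by
          rw [← QuotientGroup.eq_one_iff, ← QuotientGroup.mk'_apply, map_pow]; exact hj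
        exact h1
      obtain ⟨a, ha, b, hb, hab⟩ := hFdec _ hF'
      obtain ⟨i, hi⟩ := (PSolvable.pCore_isPGroup (p := r) (G := G)) ⟨a, ha⟩
      refine ⟨j + i, Subtype.ext ?_⟩
      show (QuotientGroup.mk' X (m : G)) ^ r ^ (j + i) = 1
      rw [pow_add, pow_mul, ← map_pow, hab, map_mul,
        show QuotientGroup.mk' X b = 1 from (QuotientGroup.eq_one_iff b).mpr hb, mul_one, ← map_pow]
      rw [show a ^ r ^ i = 1 from congrArg Subtype.val hi, map_one]
    haveI := hrange.isNilpotent
    refine Subgroup.isNilpotent_of_ker_le_center ψ.rangeRestrict fun m hm => ?_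
    rw [MonoidHom.ker_rangeRestrict, MonoidHom.mem_ker] at hm
    have hmX : (m : G) ∈ X := (QuotientGroup.eq_one_iff _).mp hm
    exact Subgroup.mem_center_iff.mpr fun z =>
      Subtype.ext (Subgroup.mem_centralizer_iff.mp (hMC z.2) (m : G) hmX).symm
  exact Lib.Fitting.le_fittingSubgroup_of_isSubnormal hMsn hMnil ⟨⟨y, hyC⟩, hyK, rfl⟩

end Cfsg.Agent.Lib.ValueCriterion
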