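import Cfsg.Agent.Lib.ValueCriterion.Values

/-!
# Values of prime-power order generate the terms of the lower central series
-/

set_option autoImplicit false

namespace Cfsg.Agent.Lib.ValueCriterion

open scoped commutatorElement Pointwise

universe u

variable {G : Type u} [Group G]

theorem iterate_mem {Q : Subgroup G} {t : G} (ht : t ∈ Subgroup.normalizer (Q : Set G)) {q : G}
    (hq : q ∈ Q) (k : ℕ) : (fun c : G => ⁅c, t⁆)^[k] q ∈ Q := by
  induction k with
  | zero => exact hq
  | succ k ih =>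
    rw [Function.iterate_succ_apply']
    show ⁅_, t⁆ ∈ Q
    rw [commutatorElement_def, mul_assoc, mul_assoc, ← mul_assoc t]
    exact mul_mem ih ((Subgroup.mem_normalizer_iff.mp ht _).mp (inv_mem ih))

theorem eq_one_of_commutator_commute [Finite G] {p : ℕ} [Fact p.Prime] {Q : Subgroup G}
    (hQ : IsPGroup p Q) {t : G} (hcop : (orderOf t).Coprime p) {q : G} (hc : ⁅q, t⁆ ∈ Q)
    (hct : Commute ⁅q, t⁆ t) : ⁅q, t⁆ = 1 := by
  have h1 : (⁅q, t⁆ * t) ^ orderOf t = 1 := by
    rw [show ⁅q, t⁆ * t = q * t * q⁻¹ by rw [commutatorElement_def]; group, conj_pow,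
      pow_orderOf_eq_one, mul_one, mul_inv_cancel]
  rw [hct.mul_pow, pow_orderOf_eq_one, mul_one] at h1
  obtain ⟨a, ha⟩ := IsPGroup.iff_orderOf.mp hQ ⟨_, hc⟩
  rw [← Subgroup.orderOf_coe] at ha
  rw [← orderOf_eq_one_iff]
  exact Nat.eq_one_of_dvd_coprimes (hcop.symm.pow_left a) ha.dvd (orderOf_dvd_of_pow_eq_one h1)

/-- Iterated commutators with a coprime element detect centralisation. -/
theorem commute_of_iterate [Finite G] {p : ℕ} [Fact p.Prime] {Q : Subgroup G} (hQ : IsPGroup p Q)
    {t : G} (ht : t ∈ Subgroup.normalizer (Q : Set G)) (hcop : (orderOf t).Coprime p) (k : ℕ) :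
    ∀ {q : G}, q ∈ Q → (fun c : G => ⁅c, t⁆)^[k] q = 1 → Commute q t := by
  induction k with
  | zero => intro q _ h; rw [show q = 1 from h]; exact Commute.one_left t
  | succ k ih =>
    intro q hq h
    rw [Function.iterate_succ_apply] at h
    have hc : ⁅q, t⁆ ∈ Q := iterate_mem ht hq 1
    exact commutatorElement_eq_one_iff_mul_comm.mp
      (eq_one_of_commutator_commute hQ hcop hc (ih hc h))

/-- A lift of prescribed order type. -/
theorem exists_pow_lift [Finite G] {H : Type*} [Group H] (φ : G →* H) (g : G) {a b : ℕ}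
    (hab : a.Coprime b) (hg : orderOf g ∣ a * b) (hgb : orderOf (φ g) ∣ b) :
    ∃ e : ℕ, φ (g ^ e) = φ g ∧ orderOf (g ^ e) ∣ b := by
  obtain ⟨e, he1, he2⟩ := Nat.chineseRemainder hab 0 1
  refine ⟨e, ?_, ?_⟩
  · rw [map_pow]
    conv_rhs => rw [← pow_one (φ g)]
    exact pow_eq_pow_iff_modEq.mpr (he2.of_dvd hgb)
  · refine orderOf_dvd_of_pow_eq_one ?_
    rw [← pow_mul]
    exact orderOf_dvd_iff_pow_eq_one.mp (hg.trans (Nat.mul_dvd_mul_right (Nat.modEq_zero_iff_dvd.mp he1) b))

/-- The subgroup generated by the values of `p`-power order. -/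
def primeValues (p k : ℕ) (G : Type u) [Group G] : Subgroup G :=
  Subgroup.closure {g : G | Val k g ∧ ∃ n : ℕ, orderOf g = p ^ n}

theorem mem_primeValues {p k : ℕ} {g : G} (hg : Val k g) {n : ℕ} (ho : orderOf g = p ^ n) :
    g ∈ primeValues p k G :=
  Subgroup.subset_closure ⟨hg, n, ho⟩

theorem primeValues_normal (p k : ℕ) : (primeValues p k G).Normal := by
  refine ⟨fun x hx c => ?_⟩
  induction hx using Subgroup.closure_induction with
  | mem y hy =>
    obtain ⟨hv, n, hn⟩ := hy
    refine mem_primeValues (val_conj c hv) (n := n) ?_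
    rw [show c * y * c⁻¹ = MulAut.conj c y from rfl, MulEquiv.orderOf_eq, hn]
  | one => simp
  | mul y z _ _ hy hz => simpa [mul_assoc] using mul_mem hy hz
  | inv y _ hy => simpa [mul_assoc] using inv_mem hy

/-- Modulo the values of `p`-power order there is a normal `p`-complement. -/
theorem hasNormalPComplement_quotient [Finite G] (p k : ℕ) [hp : Fact p.Prime] (N : Subgroup G)
    [N.Normal] (hN : primeValues p k G ≤ N) : Cfsg.HasNormalPComplement p (G ⧸ N) := by
  rw [Transfer.hasNormalPComplement_iff_locallyPTrivial]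
  intro Q hQ gb hgb hcop
  set π := QuotientGroup.mk' N with hπ
  set E := Q.comap π with hE
  have hNE : N ≤ E := fun x hx => by
    rw [hE, Subgroup.mem_comap, hπ, QuotientGroup.mk'_apply, (QuotientGroup.eq_one_iff x).mpr hx]
    exact one_mem Q
  obtain ⟨P⟩ : Nonempty (Sylow p E) := inferInstance
  obtain ⟨g, hg⟩ := QuotientGroup.mk'_surjective N gb
  have hgE : ∀ x ∈ E, g * x * g⁻¹ ∈ E := fun x hx => by
    rw [hE, Subgroup.mem_comap, map_mul, map_mul, map_inv, hg]
    exact (Subgroup.mem_normalizer_iff.mp hgb _).mp hx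
  -- the image of `P` is `Q`
  have hPQ : ∀ q ∈ Q, ∃ x : E, x ∈ (P : Subgroup E) ∧ π (x : G) = q := by
    intro q hq
    obtain ⟨e, he⟩ := QuotientGroup.mk'_surjective N q
    let φ : E →* Q := (π.comp E.subtype).codRestrict Q fun x => x.2
    have hφ : Function.Surjective φ := fun ⟨r, hr⟩ => by
      obtain ⟨e, he⟩ := QuotientGroup.mk'_surjective N r
      exact ⟨⟨e, by rw [hE, Subgroup.mem_comap, he]; exact hr⟩, Subtype.ext he⟩
    have htop : (P.mapSurjective hφ : Subgroup Q) = ⊤ := by
      rw [← (P.mapSurjective hφ).is_maximal' (hQ.of_equiv Subgroup.topEquiv.symm) le_top]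
    have hqm : (⟨q, hq⟩ : Q) ∈ (P : Subgroup E).map φ := by
      rw [← Sylow.coe_mapSurjective hφ P, htop]; trivial
    obtain ⟨x, hx, hxq⟩ := hqm
    exact ⟨x, hx, congrArg Subtype.val hxq⟩
  -- Frattini
  let σ : MulAut E :=
    { toFun := fun x => ⟨g * x * g⁻¹, hgE x x.2⟩
      invFun := fun x => ⟨g⁻¹ * x * g, by
        have hgn : g⁻¹ * x * g ∈ E := by
          show π (g⁻¹ * x * g) ∈ Q
          rw [map_mul, map_mul, map_inv, hg]
          exact (Subgroup.mem_normalizer_iff''.mp hgb _).mp x.2
        exact hgn⟩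
      left_inv := fun x => Subtype.ext (by simp [mul_assoc])
      right_inv := fun x => Subtype.ext (by simp [mul_assoc])
      map_mul' := fun x y => Subtype.ext (by simp [mul_assoc]) }
  obtain ⟨e, he⟩ := MulAction.exists_smul_eq E (σ • P) P
  obtain ⟨x, hx, hxe⟩ := hPQ (π (e : G)) e.2
  set n : G := (x : G)⁻¹ * (e : G)
  set g₁ := n * g with hg₁
  have hg₁π : π g₁ = gb := by rw [hg₁, map_mul, map_mul, map_inv, hxe, inv_mul_cancel, one_mul, hg]
  set P' := (P : Subgroup E).map E.subtype with hP'
  have hg₁N : g₁ ∈ Subgroup.normalizer (P' : Set G) := by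
    have key : ∀ y ∈ P', g₁ * y * g₁⁻¹ ∈ P' := by
      rintro _ ⟨y, hy, rfl⟩
      have h1 : e * σ y * e⁻¹ ∈ (P : Subgroup E) := by
        have h0 : σ y ∈ ((σ • P : Sylow p E) : Subgroup E) :=
          Subgroup.smul_mem_pointwise_smul _ σ _ hy
        have h2 : MulAut.conj e (σ y) ∈ ((e • (σ • P) : Sylow p E) : Subgroup E) := by
          rw [Sylow.coe_subgroup_smul]
          exact Subgroup.smul_mem_pointwise_smul _ (MulAut.conj e) _ h0
        rw [he] at h2
        exact h2
      refine ⟨x⁻¹ * (e * σ y * e⁻¹) * x, mul_mem (mul_mem (inv_mem hx) h1) hx, ?_⟩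
      simp [hg₁, n, σ, mul_assoc]
    refine Subgroup.mem_normalizer_iff.mpr fun y => ⟨key y, fun hy => ?_⟩
    let f : P' → P' := fun z => ⟨_, key z z.2⟩
    have hf : Function.Injective f := fun a b h => by
      have h1 : g₁ * (a : G) * g₁⁻¹ = g₁ * (b : G) * g₁⁻¹ := congrArg Subtype.val h
      exact Subtype.ext (mul_left_cancel (mul_right_cancel h1))
    obtain ⟨z, hz⟩ := Finite.surjective_of_injective hf ⟨_, hy⟩
    have hz' : g₁ * (z : G) * g₁⁻¹ = g₁ * y * g₁⁻¹ := congrArg Subtype.val hz
    exact (mul_left_cancel (mul_right_cancel hz')) ▸ z.2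
  -- a lift of order prime to `p`
  obtain ⟨a, b, hb, hab⟩ := Nat.exists_eq_pow_mul_and_not_dvd (orderOf_pos g₁).ne' p hp.out.ne_one
  obtain ⟨c, hc1, hc2⟩ := exists_pow_lift π g₁ (a := p ^ a) (b := b)
    ((hp.out.coprime_iff_not_dvd.mpr hb).pow_left a) hab.dvd
    (by
      rw [hg₁π]
      refine (Nat.Coprime.dvd_mul_left (hcop.pow_right a)).mp ?_
      rw [← hab, ← hg₁π]
      exact orderOf_map_dvd π g₁)
  rw [hg₁π] at hc1
  set t := g₁ ^ c
  have htN : t ∈ Subgroup.normalizer (P' : Set G) := pow_mem hg₁N c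
  have htp : (orderOf t).Coprime p :=
    ((hp.out.coprime_iff_not_dvd.mpr hb).symm).coprime_dvd_left hc2
  have hP'p : IsPGroup p P' := P.2.map _
  rw [Subgroup.mem_centralizer_iff]
  intro q hq
  obtain ⟨y, hy, rfl⟩ := hPQ q hq
  set z := (fun w : G => ⁅w, t⁆)^[k] (y : G)
  have hzN : z ∈ N := by
    obtain ⟨j, hj⟩ := IsPGroup.iff_orderOf.mp hP'p ⟨_, iterate_mem htN ⟨y, hy, rfl⟩ k⟩
    rw [← Subgroup.orderOf_coe] at hj
    exact hN (mem_primeValues (val_iterate t (y : G)) hj)
  have hsc : (fun w : G ⧸ N => ⁅w, gb⁆)^[k] (π (y : G)) = 1 := by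
    have h := Function.Semiconj.iterate_right (f := π) (ga := fun w : G => ⁅w, t⁆)
      (gb := fun w : G ⧸ N => ⁅w, gb⁆) (fun w => by
        show π ⁅w, t⁆ = ⁅π w, gb⁆
        rw [map_commutatorElement, hc1]) k (y : G)
    rw [← h, hπ, QuotientGroup.mk'_apply, (QuotientGroup.eq_one_iff _).mpr hzN]
  exact (commute_of_iterate hQ hgb hcop k hq hsc).eq

/-- A finite group with normal complements for all primes is nilpotent. -/
theorem isNilpotent_of_forall_npc {X : Type u} [Group X] [Finite X]
    (h : ∀ q : ℕ, q.Prime → Cfsg.HasNormalPComplement q X) : Group.IsNilpotent X := by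
  let f : X →* ((q : (Nat.card X).primeFactors) → X ⧸ Cfsg.pResidual (q : ℕ) X) :=
    { toFun := fun x q => (x : X ⧸ Cfsg.pResidual (q : ℕ) X)
      map_one' := rfl
      map_mul' := fun _ _ => rfl }
  haveI : ∀ q : (Nat.card X).primeFactors, Group.IsNilpotent (X ⧸ Cfsg.pResidual (q : ℕ) X) := fun q => by
    haveI := Fact.mk (Nat.prime_of_mem_primeFactors q.2)
    exact (Transfer.isPGroup_quotient_pResidual (p := (q : ℕ))).isNilpotent
  refine Subgroup.isNilpotent_of_ker_le_center f fun x hx => ?_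
  suffices x = 1 by rw [this]; exact one_mem _
  rw [← orderOf_eq_one_iff]
  by_contra hne
  obtain ⟨q, hq, hqd⟩ := Nat.exists_prime_and_dvd hne
  haveI := Fact.mk hq
  have hmem : x ∈ Cfsg.pResidual q X := (QuotientGroup.eq_one_iff x).mp
    (congrFun (MonoidHom.mem_ker.mp hx) ⟨q, Nat.mem_primeFactors.mpr
      ⟨hq, hqd.trans (orderOf_dvd_natCard x), Nat.card_pos.ne'⟩⟩)
  exact Transfer.hasNormalPComplement_iff.mp (h q hq)
    (hqd.trans (Subgroup.orderOf_dvd_natCard _ hmem))

theorem val_pi_component {ι : Type*} {H : ι → Type*} [∀ i, Group (H i)] {k : ℕ} {g : ∀ i, H i}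
    (hg : Val k g) (i : ι) : Val k (g i) := by
  induction k generalizing g with
  | zero => trivial
  | succ k ih =>
    obtain ⟨a, z, ha, rfl⟩ := hg
    exact ⟨a i, z i, ih ha, rfl⟩

/-- A normal subgroup containing the values of prime-power order contains the term of the lower
central series. -/
theorem lowerCentralSeries_le [Finite G] (k : ℕ) (N : Subgroup G) [N.Normal]
    (hN : ∀ p : ℕ, p.Prime → primeValues p k G ≤ N) :
    (⊤ : Subgroup G).lowerCentralSeries k ≤ N := by
  classical
  set Q := G ⧸ N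
  set π := QuotientGroup.mk' N with hπ
  haveI hnil : Group.IsNilpotent Q := isNilpotent_of_forall_npc fun q hq => by
    haveI := Fact.mk hq
    exact hasNormalPComplement_quotient q k N (hN q hq)
  have hval : ∀ v : Q, Val k v → v = 1 := by
    intro v hv
    obtain ⟨e⟩ : Nonempty ((∀ q : (Nat.card Q).primeFactors, ∀ P : Sylow (q : ℕ) Q,
        (P : Subgroup Q)) ≃* Q) :=
      ((Group.isNilpotent_of_finite_tfae (G := Q)).out 0 4 rfl rfl).mp inferInstance
    have h1 : e.symm v = 1 := by
      funext q P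
      haveI : Fact (q : ℕ).Prime := ⟨Nat.prime_of_mem_primeFactors q.2⟩
      have hc : Val k (e.symm v q P) :=
        val_pi_component (val_pi_component (val_map e.symm.toMonoidHom hv) q) P
      haveI : (P : Subgroup Q).Normal :=
        Sylow.normal_of_normalizerCondition Group.normalizerCondition_of_isNilpotent P
      haveI := Sylow.unique_of_normal P inferInstance
      obtain ⟨P₀⟩ : Nonempty (Sylow (q : ℕ) G) := inferInstance
      let ψ : (P₀ : Subgroup G) →* (P : Subgroup Q) :=
        (π.comp (P₀ : Subgroup G).subtype).codRestrict _ fun x => by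
          have h2 : P₀.mapSurjective (QuotientGroup.mk'_surjective N) = P := Subsingleton.elim _ _
          rw [← h2]
          exact ⟨x, x.2, rfl⟩
      have hψ : Function.Surjective ψ := fun ⟨y, hy⟩ => by
        have h2 : P₀.mapSurjective (QuotientGroup.mk'_surjective N) = P := Subsingleton.elim _ _
        rw [← h2] at hy
        obtain ⟨x, hx, hxy⟩ := hy
        exact ⟨⟨x, hx⟩, Subtype.ext hxy⟩
      obtain ⟨w, hw, hwv⟩ := val_exists_preimage hψ hc
      obtain ⟨j, hj⟩ := IsPGroup.iff_orderOf.mp P₀.2 w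
      rw [← Subgroup.orderOf_coe] at hj
      have hwN : (w : G) ∈ N := hN _ Fact.out (mem_primeValues (val_map (P₀ : Subgroup G).subtype hw) hj)
      rw [← hwv]
      exact Subtype.ext ((QuotientGroup.eq_one_iff (w : G)).mpr hwN)
    simpa using congrArg e h1
  -- values generate
  have hgen : ∀ j, (⊤ : Subgroup G).lowerCentralSeries j ≤ Subgroup.closure {g : G | Val j g} := by
    intro j
    induction j with
    | zero => exact fun x _ => Subgroup.subset_closure trivial
    | succ j ih =>
      rw [Subgroup.lowerCentralSeries_succ]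
      haveI : (Subgroup.closure {g : G | Val (j + 1) g}).Normal := by
        refine ⟨fun x hx c => ?_⟩
        induction hx using Subgroup.closure_induction with
        | mem y hy => exact Subgroup.subset_closure (val_conj c hy)
        | one => simp
        | mul y z _ _ hy hz => simpa [mul_assoc] using mul_mem hy hz
        | inv y _ hy => simpa [mul_assoc] using inv_mem hy
      rw [Subgroup.commutator_le]
      intro a ha z _
      set π' := QuotientGroup.mk' (Subgroup.closure {g : G | Val (j + 1) g}) with hπ'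
      have hle : Subgroup.closure {g : G | Val j g} ≤ (Subgroup.center _).comap π' := by
        refine (Subgroup.closure_le _).mpr fun s hs => Subgroup.mem_center_iff.mpr fun w => ?_
        obtain ⟨w', rfl⟩ := QuotientGroup.mk'_surjective _ w
        refine (commutatorElement_eq_one_iff_mul_comm.mp ?_).symm
        rw [← map_commutatorElement]
        exact (QuotientGroup.eq_one_iff _).mpr (Subgroup.subset_closure ⟨s, w', hs, rfl⟩)
      have h1 := Subgroup.mem_center_iff.mp (hle (ih ha)) (π' z)
      rw [← QuotientGroup.eq_one_iff]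
      show π' ⁅a, z⁆ = 1
      rw [map_commutatorElement]
      exact commutatorElement_eq_one_iff_mul_comm.mpr h1.symm
  refine (hgen k).trans ((Subgroup.closure_le _).mpr fun g hg => ?_)
  exact (QuotientGroup.eq_one_iff g).mp (hval _ (val_map π hg))

end Cfsg.Agent.Lib.ValueCriterion
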