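import Mathlib
import Cfsg.Agent.Lib.Transfer.Criteria
import Cfsg.Agent.Lib.Fitting.Nilpotent
import Cfsg.Agent.Lib.Core.Fitting
import Cfsg.Agent.Lib.Transfer.Hall

/-!
# Metanilpotent maximal subgroups with uniquely contained central elements

Every element of prime-power order gets a "home", the maximal subgroup over its centraliser.
-/

set_option autoImplicit false

namespace Cfsg.Agent.Lib.ValueCriterion

open Cfsg
open scoped Pointwise commutatorElement

universe u

variable {Q : Type u} [Group Q]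

/-- Nilpotent by nilpotent maximal subgroups, and each Sylow subgroup has a central element lying
in a unique maximal subgroup. -/
structure TISetup (Q : Type u) [Group Q] : Prop where
  simple : IsSimpleGroup Q
  ncomm : ¬ IsMulCommutative Q
  metanil : ∀ M : Subgroup Q, IsCoatom M → ∃ k : ℕ,
    (⊤ : Subgroup M).lowerCentralSeries k ≤ fittingSubgroup M
  central : ∀ p : ℕ, p.Prime → ∀ P : Sylow p Q, (P : Subgroup Q) ≠ ⊥ → ∃ z ∈ (P : Subgroup Q),
    z ≠ 1 ∧ (∀ x ∈ (P : Subgroup Q), Commute x z) ∧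
    ∀ M M' : Subgroup Q, IsCoatom M → IsCoatom M' → z ∈ M → z ∈ M' → M = M'

/-- The maximal subgroup over the centraliser. -/
def Home (x : Q) (M : Subgroup Q) : Prop :=
  IsCoatom M ∧ Subgroup.centralizer ({x} : Set Q) ≤ M

/-- The Fitting subgroup of a subgroup, inside the ambient group. -/
def fitIn (M : Subgroup Q) : Subgroup Q := (fittingSubgroup M).map M.subtype

theorem fitIn_le (M : Subgroup Q) : fitIn M ≤ M := Subgroup.map_subtype_le _

theorem mem_fitIn {M : Subgroup Q} {x : Q} :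
    x ∈ fitIn M ↔ ∃ h : x ∈ M, (⟨x, h⟩ : M) ∈ fittingSubgroup M := by
  constructor
  · rintro ⟨⟨y, hy⟩, hyF, rfl⟩; exact ⟨hy, hyF⟩
  · rintro ⟨h, hF⟩; exact ⟨_, hF, rfl⟩

theorem Home.mem {x : Q} {M : Subgroup Q} (h : Home x M) : x ∈ M :=
  h.2 (Subgroup.mem_centralizer_singleton_iff.mpr rfl)

theorem Home.smul {x : Q} {M : Subgroup Q} (h : Home x M) (g : Q) :
    Home (g * x * g⁻¹) (MulAut.conj g • M) := by
  refine ⟨?_, fun c hc => ?_⟩
  · have := ((MulAut.conj g).mapSubgroup).isCoatom_iff M |>.mpr h.1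
    exact this
  · rw [Subgroup.mem_pointwise_smul_iff_inv_smul_mem]
    refine h.2 (Subgroup.mem_centralizer_singleton_iff.mpr ?_)
    have h1 := Subgroup.mem_centralizer_singleton_iff.mp hc
    simp only [MulAut.smul_def, MulAut.conj_inv_apply]
    calc g⁻¹ * c * g * x = g⁻¹ * (c * (g * x * g⁻¹)) * g := by group
      _ = g⁻¹ * ((g * x * g⁻¹) * c) * g := by rw [h1]
      _ = x * (g⁻¹ * c * g) := by group

theorem fittingSubgroup_normal' (M : Subgroup Q) : (fittingSubgroup M).Normal :=
  Lib.Fitting.fittingSubgroup_normal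

theorem le_normalizer_fitIn (M : Subgroup Q) : M ≤ Subgroup.normalizer (fitIn M : Set Q) := by
  intro m hm
  haveI := fittingSubgroup_normal' M
  exact Subgroup.le_normalizer_map M.subtype
    ⟨⟨m, hm⟩, by rw [Subgroup.normalizer_eq_top]; trivial, rfl⟩

variable [Finite Q]

theorem isNilpotent_fitIn (M : Subgroup Q) : Group.IsNilpotent (fitIn M) := by
  haveI := Lib.Fitting.fittingSubgroup_isNilpotent (G := M)
  exact Group.nilpotent_of_mulEquiv
    ((fittingSubgroup M).equivMapOfInjective M.subtype M.subtype_injective)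

theorem card_fitIn (M : Subgroup Q) : Nat.card (fitIn M) = Nat.card (fittingSubgroup M) :=
  Subgroup.card_map_of_injective M.subtype_injective

namespace TISetup

variable (T : TISetup Q)

include T

theorem perfect : commutator Q = ⊤ := by
  haveI := T.simple
  refine ((inferInstance : (commutator Q).Normal).eq_bot_or_eq_top).resolve_left fun h => T.ncomm ⟨⟨?_⟩⟩
  intro a b
  have h1 : ⁅a, b⁆ ∈ commutator Q :=
    Subgroup.commutator_mem_commutator (Subgroup.mem_top a) (Subgroup.mem_top b)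
  rw [h, Subgroup.mem_bot] at h1
  exact commutatorElement_eq_one_iff_mul_comm.mp h1

theorem normalizer_coatom {M : Subgroup Q} (hM : IsCoatom M) :
    Subgroup.normalizer (M : Set Q) = M := by
  haveI := T.simple
  refine (hM.le_iff.mp Subgroup.le_normalizer).resolve_left fun h => ?_
  rcases (Subgroup.normalizer_eq_top_iff.mp h).eq_bot_or_eq_top with rfl | rfl
  · haveI : Nontrivial Q := IsSimpleGroup.toNontrivial
    obtain ⟨x, hx⟩ := exists_ne (1 : Q)
    rcases hM.le_iff.mp (bot_le : ⊥ ≤ Subgroup.zpowers x) with e | e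
    · haveI : IsCyclic Q := ⟨⟨x, fun y => by
        have : y ∈ Subgroup.zpowers x := e ▸ Subgroup.mem_top y
        exact this⟩⟩
      exact T.ncomm ⟨⟨IsCyclic.commGroup.mul_comm⟩⟩
    · exact hx (Subgroup.mem_bot.mp (e ▸ Subgroup.mem_zpowers x))
  · exact hM.1 rfl

theorem smul_eq_iff {M : Subgroup Q} (hM : IsCoatom M) {g : Q} :
    MulAut.conj g • M = M ↔ g ∈ M := by
  conv_rhs => rw [← T.normalizer_coatom hM, Subgroup.mem_normalizer_iff_map_conj_eq]
  rfl

theorem centralizer_ne_top {x : Q} (hx : x ≠ 1) : Subgroup.centralizer ({x} : Set Q) ≠ ⊤ := by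
  intro h
  haveI := T.simple
  have hxc : x ∈ Subgroup.center Q := Subgroup.mem_center_iff.mpr fun g =>
    Subgroup.mem_centralizer_singleton_iff.mp (h ▸ Subgroup.mem_top g)
  rcases (inferInstance : (Subgroup.center Q).Normal).eq_bot_or_eq_top with e | e
  · exact hx (Subgroup.mem_bot.mp (e ▸ hxc))
  · exact T.ncomm ⟨⟨fun a b => Subgroup.mem_center_iff.mp (e ▸ Subgroup.mem_top b) a⟩⟩

/-- All non-trivial elements of a Sylow subgroup have the same home, which contains it. -/
theorem sylow_home {p : ℕ} [hp : Fact p.Prime] (P : Sylow p Q) {x : Q} (hx : x ∈ (P : Subgroup Q))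
    (hx1 : x ≠ 1) :
    ∃ M, Home x M ∧ (P : Subgroup Q) ≤ M ∧
      (∀ y ∈ (P : Subgroup Q), y ≠ 1 → ∀ N, Home y N → N = M) ∧
      ∃ z ∈ (P : Subgroup Q), z ≠ 1 ∧ (∀ y ∈ (P : Subgroup Q), Commute y z) ∧
        ∀ N, IsCoatom N → z ∈ N → N = M := by
  obtain ⟨z, hzP, hz1, hzc, huniq⟩ := T.central p hp.out P fun h => hx1 (Subgroup.mem_bot.mp (h ▸ hx))
  have hmem : ∀ y ∈ (P : Subgroup Q), y ∈ Subgroup.centralizer ({z} : Set Q) := fun y hy =>
    Subgroup.mem_centralizer_singleton_iff.mpr (hzc y hy).eq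
  obtain ⟨M, hM, hle⟩ := (eq_top_or_exists_le_coatom _).resolve_left (T.centralizer_ne_top hz1)
  have hzM : z ∈ M := hle (Subgroup.mem_centralizer_singleton_iff.mpr rfl)
  have hzy : ∀ y ∈ (P : Subgroup Q), z ∈ Subgroup.centralizer ({y} : Set Q) := fun y hy =>
    Subgroup.mem_centralizer_singleton_iff.mpr (hzc y hy).symm.eq
  obtain ⟨N, hN, hNle⟩ := (eq_top_or_exists_le_coatom _).resolve_left (T.centralizer_ne_top hx1)
  have hNM : N = M := huniq N M hN hM (hNle (hzy x hx)) hzM
  exact ⟨M, hNM ▸ ⟨hN, hNle⟩, fun y hy => hle (hmem y hy),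
    fun y hy _ N' hN' => huniq N' M hN'.1 hM (hN'.2 (hzy y hy)) hzM,
    z, hzP, hz1, hzc, fun N' hN' hzN' => huniq N' M hN' hM hzN' hzM⟩

theorem exists_home {x : Q} (hx1 : x ≠ 1) : ∃ M, Home x M :=
  let ⟨M, hM, hle⟩ := (eq_top_or_exists_le_coatom _).resolve_left (T.centralizer_ne_top hx1)
  ⟨M, hM, hle⟩

theorem home_eq_of_pGroup {p : ℕ} [Fact p.Prime] {H : Subgroup Q} (hH : IsPGroup p H) {x y : Q}
    (hx : x ∈ H) (hy : y ∈ H) (hx1 : x ≠ 1) (hy1 : y ≠ 1) {M N : Subgroup Q}
    (hM : Home x M) (hN : Home y N) : M = N := by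
  obtain ⟨P, hP⟩ := hH.exists_le_sylow
  obtain ⟨M₀, -, -, huniq, -⟩ := T.sylow_home P (hP hx) hx1
  rw [huniq x (hP hx) hx1 M hM, huniq y (hP hy) hy1 N hN]

/-- Elements of prime-power order of the Fitting subgroup of a maximal subgroup live there. -/
theorem home_of_mem_fitIn {p : ℕ} [hp : Fact p.Prime] {M : Subgroup Q} (hM : IsCoatom M) {x : Q}
    (hxF : x ∈ fitIn M) {n : ℕ} (hxo : orderOf x = p ^ n) (hx1 : x ≠ 1) : Home x M := by
  haveI := fittingSubgroup_normal' M
  haveI := Lib.Fitting.fittingSubgroup_isNilpotent (G := M)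
  haveI : (pCore p M).Normal := Subgroup.sSup_normal _ (fun N h => h.1)
  obtain ⟨hxM, hxF'⟩ := mem_fitIn.mp hxF
  set A := (pCore p M).map M.subtype with hA
  have hxA : x ∈ A := by
    refine ⟨⟨x, hxM⟩, ?_, rfl⟩
    obtain ⟨S, hS⟩ := (IsPGroup.of_card (n := n) (G := Subgroup.zpowers (⟨⟨x, hxM⟩, hxF'⟩ : fittingSubgroup M))
      (by rw [Nat.card_zpowers, ← Subgroup.orderOf_coe, ← Subgroup.orderOf_coe, hxo])).exists_le_sylow
    haveI : (S : Subgroup (fittingSubgroup M)).Normal :=
      Sylow.normal_of_normalizerCondition Group.normalizerCondition_of_isNilpotent S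
    haveI := S.characteristic_of_normal inferInstance
    haveI : ((S : Subgroup (fittingSubgroup M)).map (fittingSubgroup M).subtype).Normal :=
      ConjAct.normal_of_characteristic_of_normal
    have hmem : (⟨x, hxM⟩ : M) ∈ (S : Subgroup (fittingSubgroup M)).map (fittingSubgroup M).subtype :=
      ⟨⟨⟨x, hxM⟩, hxF'⟩, hS (Subgroup.mem_zpowers _), rfl⟩
    exact PSolvable.le_pCore (S.2.map _) hmem
  have hAp : IsPGroup p A := (PSolvable.pCore_isPGroup (p := p) (G := M)).map _
  have hAN : M ≤ Subgroup.normalizer (A : Set Q) := fun m hm =>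
    Subgroup.le_normalizer_map M.subtype
      ⟨⟨m, hm⟩, by rw [Subgroup.normalizer_eq_top]; trivial, rfl⟩
  obtain ⟨P, hP⟩ := hAp.exists_le_sylow
  obtain ⟨N, hN, -, -, z, hzP, -, hzc, huniq⟩ := T.sylow_home P (hP hxA) hx1
  have hzN : z ∈ Subgroup.normalizer (A : Set Q) := by
    rw [Subgroup.mem_normalizer_iff]
    intro a
    constructor
    · intro ha
      rwa [(hzc a (hP ha)).symm.eq, mul_inv_cancel_right]
    · intro ha
      have h1 := (hzc _ (hP ha)).eq
      rw [inv_mul_cancel_right] at h1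
      have h3 : z * a * z⁻¹ = a := mul_left_cancel (a := z) h1.symm
      rwa [h3] at ha
  have hne : Subgroup.normalizer (A : Set Q) ≠ ⊤ := fun h => by
    haveI := T.simple
    rcases (Subgroup.normalizer_eq_top_iff.mp h).eq_bot_or_eq_top with e | e
    · exact hx1 (Subgroup.mem_bot.mp (e ▸ hxA))
    · exact hM.1 (top_le_iff.mp (e ▸ Subgroup.map_subtype_le _))
  have hNA := (hM.le_iff.mp hAN).resolve_left hne
  exact (huniq M hM (hNA ▸ hzN)).symm ▸ hN

/-- Conversely an element lies in the Fitting subgroup of its home. -/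
theorem mem_fitIn_of_home {p : ℕ} [hp : Fact p.Prime] {M : Subgroup Q} {x : Q} (hM : Home x M)
    {n : ℕ} (hxo : orderOf x = p ^ n) (hx1 : x ≠ 1) :
    x ∈ fitIn M ∧ ¬ p ∣ (fittingSubgroup M).index := by
  classical
  obtain ⟨P, hP⟩ := (IsPGroup.of_card (n := n) (G := Subgroup.zpowers x)
    (by rw [Nat.card_zpowers, hxo])).exists_le_sylow
  have hxP : x ∈ (P : Subgroup Q) := hP (Subgroup.mem_zpowers x)
  obtain ⟨M₀, -, hPM₀, huniq, -⟩ := T.sylow_home P hxP hx1
  obtain rfl := huniq x hxP hx1 M hM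
  have hctrl : ∀ y ∈ (P : Subgroup Q), ∀ g : Q, g * y * g⁻¹ ∈ (P : Subgroup Q) →
      ∃ k ∈ M, k * y * k⁻¹ = g * y * g⁻¹ := by
    intro y hy g hg
    by_cases hy1 : y = 1
    · exact ⟨1, one_mem _, by simp [hy1]⟩
    obtain ⟨N, hN⟩ := T.exists_home hy1
    obtain rfl := huniq y hy hy1 N hN
    refine ⟨g, (T.smul_eq_iff hN.1).mp ?_, rfl⟩
    exact huniq _ hg (fun h => hy1 (by simpa using h)) _ (hN.smul g)
  have hcomm : (P : Subgroup Q) ≤ ⁅M, M⁆ := by
    have h1 := Transfer.commutator_inf_eq_of_control P hPM₀ hctrl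
    rw [T.perfect, top_inf_eq] at h1
    rw [h1]; exact inf_le_left
  haveI := fittingSubgroup_normal' M
  set π := QuotientGroup.mk' (fittingSubgroup M) with hπ
  obtain ⟨k, hk⟩ := T.metanil M hM.1
  haveI hnil : Group.IsNilpotent (M ⧸ fittingSubgroup M) := by
    rw [Subgroup.nilpotent_iff_lowerCentralSeries]
    refine ⟨k, ?_⟩
    rw [← Subgroup.map_top_of_surjective π (QuotientGroup.mk'_surjective _),
      ← Subgroup.map_lowerCentralSeries, Subgroup.map_eq_bot_iff, QuotientGroup.ker_mk']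
    exact hk
  have hPc : ((P : Subgroup Q).subgroupOf M).map π ≤ commutator (M ⧸ fittingSubgroup M) := by
    refine (Subgroup.map_mono ?_).trans ?_ (b := (commutator M).map π)
    · intro y hy
      have h1 : (y : Q) ∈ (commutator M).map M.subtype := by
        rw [Subgroup.map_subtype_commutator]; exact hcomm hy
      exact (Subgroup.mem_map_iff_mem M.subtype_injective).mp h1
    · rw [commutator_def, Subgroup.map_commutator]
      exact Subgroup.commutator_mono le_top le_top
  have hnd : ¬ p ∣ (fittingSubgroup M).index := by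
    set X := M ⧸ fittingSubgroup M
    haveI : (pResidual p X).Normal := Transfer.pResidual_normal
    set ρ := QuotientGroup.mk' (pResidual p X)
    have hXp : IsPGroup p (X ⧸ pResidual p X) := Transfer.isPGroup_quotient_pResidual
    let P' : Sylow p M := P.subtype hPM₀
    have hsurj : Function.Surjective (ρ.comp π) :=
      (QuotientGroup.mk'_surjective _).comp (QuotientGroup.mk'_surjective _)
    have htop : ((P' : Subgroup M).map (ρ.comp π)) = ⊤ := by
      have h1 : (P'.mapSurjective hsurj).toSubgroup = (⊤ : Subgroup (X ⧸ pResidual p X)) :=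
        ((P'.mapSurjective hsurj).is_maximal' (hXp.of_equiv Subgroup.topEquiv.symm) le_top).symm
      rwa [Sylow.coe_mapSurjective] at h1
    have hperf : commutator (X ⧸ pResidual p X) = ⊤ := by
      rw [eq_top_iff, ← htop, ← Subgroup.map_map, Sylow.coe_subtype]
      refine (Subgroup.map_mono hPc).trans ?_
      rw [commutator_def, Subgroup.map_commutator]
      exact Subgroup.commutator_mono le_top le_top
    haveI : Group.IsNilpotent (X ⧸ pResidual p X) := hXp.isNilpotent
    have hres : pResidual p X = ⊤ := by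
      by_contra h
      haveI : Nontrivial (X ⧸ pResidual p X) := QuotientGroup.nontrivial_iff.mpr h
      have := IsSolvable.commutator_lt_top_of_nontrivial (G := X ⧸ pResidual p X)
      exact this.ne hperf
    have h1 := Transfer.hasNormalPComplement_iff.mp
      (Transfer.hasNormalPComplement_of_isNilpotent (G := X) (p := p))
    rwa [hres, Subgroup.card_top, ← Subgroup.index_eq_card] at h1
  refine ⟨mem_fitIn.mpr ⟨hM.mem, ?_⟩, hnd⟩
  rw [← QuotientGroup.eq_one_iff, ← orderOf_eq_one_iff]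
  refine Nat.eq_one_of_dvd_coprimes
    (((Nat.Prime.coprime_iff_not_dvd hp.out).mpr hnd).pow_left n) ?_ ?_
  · refine (orderOf_map_dvd π ⟨x, hM.mem⟩).trans (dvd_of_eq ?_)
    rw [← Subgroup.orderOf_coe, hxo]
  · rw [Subgroup.index_eq_card]; exact orderOf_dvd_natCard _

end TISetup

end Cfsg.Agent.Lib.ValueCriterion
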