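import Cfsg.Agent.Lib.ValueCriterion.Mixed
import Cfsg.Agent.Lib.ValueCriterion.Fitting
import Cfsg.Agent.Lib.Involution.BaerSuzuki
import Cfsg.Agent.Lib.CNTheorem.Main
import Cfsg.Agent.Lib.Zipper
import Cfsg.Agent.S3937

/-!
# The order criterion makes the term of the lower central series nilpotent
-/

set_option autoImplicit false

namespace Cfsg.Agent.Lib.ValueCriterion

open Cfsg
open scoped Pointwise commutatorElement

universe u

variable {G : Type u} [Group G]

theorem mem_pCore_of_mem {N : Subgroup G} [N.Normal] [Finite G] [Group.IsNilpotent N] {p : ℕ}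
    [Fact p.Prime] {x : G} (hx : x ∈ N) {n : ℕ} (ho : orderOf x = p ^ n) : x ∈ pCore p G := by
  obtain ⟨S, hS⟩ := (IsPGroup.of_card (n := n) (G := Subgroup.zpowers (⟨x, hx⟩ : N))
    (by rw [Nat.card_zpowers, ← Subgroup.orderOf_coe, ho])).exists_le_sylow
  haveI : (S : Subgroup N).Normal :=
    Sylow.normal_of_normalizerCondition Group.normalizerCondition_of_isNilpotent S
  haveI := S.characteristic_of_normal inferInstance
  haveI : ((S : Subgroup N).map N.subtype).Normal := ConjAct.normal_of_characteristic_of_normal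
  have hmem : x ∈ (S : Subgroup N).map N.subtype := ⟨⟨x, hx⟩, hS (Subgroup.mem_zpowers _), rfl⟩
  exact PSolvable.le_pCore (S.2.map _) hmem

theorem isSolvable_of_lcs_nilpotent {k : ℕ}
    (h : Group.IsNilpotent ((⊤ : Subgroup G).lowerCentralSeries k)) : Group.IsSolvable G := by
  set L := (⊤ : Subgroup G).lowerCentralSeries k with hL
  haveI : L.Normal := Subgroup.lowerCentralSeries_normal _ k
  haveI : Group.IsNilpotent (G ⧸ L) := by
    rw [Subgroup.nilpotent_iff_lowerCentralSeries]
    refine ⟨k, ?_⟩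
    rw [← Subgroup.map_top_of_surjective _ (QuotientGroup.mk'_surjective L),
      ← Subgroup.map_lowerCentralSeries, Subgroup.map_eq_bot_iff, QuotientGroup.ker_mk']
  haveI : Group.IsNilpotent L := h
  exact Group.isSolvable_of_ker_le_range L.subtype (QuotientGroup.mk' L) (by simp)

theorem commute_of_good [Finite G] {k : ℕ} (hG : Good k G) {p : ℕ} {y : G} (hy : Val k y) {n : ℕ}
    (hyo : orderOf y = p ^ n) (H : Subgroup G) (hyH : y ∈ H) (R : Subgroup H) (hR : R.Normal)
    (hcop : (Nat.card R).Coprime p) (z : H) (hz : z ∈ R) : Commute z ⟨y, hyH⟩ := by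
  have hn : y ∈ Subgroup.normalizer (R.map H.subtype : Set G) := by
    refine Subgroup.le_normalizer_map H.subtype ⟨⟨y, hyH⟩, ?_, rfl⟩
    rw [Subgroup.normalizer_eq_top]; trivial
  have h := hG.commute_of_normalizes hy hn
    (by rw [Subgroup.card_map_of_injective H.subtype_injective, hyo]; exact hcop.pow_right n)
    (Subgroup.mem_map_of_mem H.subtype hz)
  exact Subtype.ext h.eq

/-- In a soluble group the term of the lower central series is nilpotent. -/
theorem nilpotent_of_solvable [Finite G] [Group.IsSolvable G] {k : ℕ} (hG : Good k G) :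
    Group.IsNilpotent ((⊤ : Subgroup G).lowerCentralSeries k) := by
  haveI := Lib.Fitting.fittingSubgroup_normal (G := G)
  haveI := Lib.Fitting.fittingSubgroup_isNilpotent (G := G)
  have hle := lowerCentralSeries_le k (fittingSubgroup G) fun p hp => by
    haveI := Fact.mk hp
    refine (Subgroup.closure_le _).mpr fun y ⟨hy, n, hn⟩ => ?_
    refine mem_fitting_of_value hG Lib.Fitting.centralizer_fittingSubgroup_le
      (fun R hR hcop z hz => hG.commute_of_normalizes hy
        (by rw [Subgroup.normalizer_eq_top]; trivial) (by rw [hn]; exact hcop.pow_right n) hz) hn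
  exact Group.nilpotent_of_mulEquiv (Subgroup.subgroupOfEquivOfLe hle)

/-- In a perfect group which is simple modulo the centre, every prime has a value of prime-power
order off the centre. -/
theorem exists_value [Finite G] (k : ℕ) (hperf : commutator G = ⊤) (M : Subgroup G) [M.Normal]
    [IsSimpleGroup (G ⧸ M)] (p : ℕ) [hp : Fact p.Prime] (hpd : p ∣ Nat.card (G ⧸ M)) :
    ∃ y : G, Val k y ∧ (∃ n, orderOf y = p ^ n) ∧ y ∉ M := by
  by_contra hc
  push Not at hc
  have h := Transfer.hasNormalPComplement_iff.mp (hasNormalPComplement_quotient p k M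
    ((Subgroup.closure_le _).mpr fun y ⟨hy, n, hn⟩ => hc y hy ⟨n, hn⟩))
  haveI : (pResidual p (G ⧸ M)).Normal := Transfer.pResidual_normal
  rcases (inferInstance : (pResidual p (G ⧸ M)).Normal).eq_bot_or_eq_top with e | e
  · have hq := Transfer.isPGroup_quotient_pResidual (p := p) (G := G ⧸ M)
    haveI := hq.isNilpotent
    haveI : Group.IsNilpotent (G ⧸ M) := Group.nilpotent_of_mulEquiv
      ((QuotientGroup.quotientMulEquivOfEq e).trans QuotientGroup.quotientBot)
    have h1 := IsSolvable.commutator_lt_top_of_nontrivial (G := G ⧸ M)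
    have hm : (commutator G).map (QuotientGroup.mk' M) = ⊤ := by
      rw [hperf]; exact Subgroup.map_top_of_surjective _ (QuotientGroup.mk'_surjective M)
    rw [commutator_def, Subgroup.map_commutator,
      Subgroup.map_top_of_surjective _ (QuotientGroup.mk'_surjective M)] at hm
    exact h1.ne hm
  · rw [e, Subgroup.card_top] at h
    exact h hpd

theorem mk_eq_one_iff (x : G) : QuotientGroup.mk' (Subgroup.center G) x = 1 ↔ x ∈ Subgroup.center G :=
  QuotientGroup.eq_one_iff x

theorem mk_commute_iff (x y : G) :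
    Commute (QuotientGroup.mk' (Subgroup.center G) x) (QuotientGroup.mk' (Subgroup.center G) y) ↔
      ⁅x, y⁆ ∈ Subgroup.center G := by
  rw [← mk_eq_one_iff, map_commutatorElement, commutatorElement_eq_one_iff_mul_comm]
  rfl

/-- Descend to a value which is central modulo the centre. -/
theorem exists_central_value [Finite G] {p : ℕ} [Fact p.Prime] {k : ℕ} (T : Subgroup G)
    (hT : IsPGroup p T) {y : G} (hy : Val k y) (hyT : y ∈ T) {a : G} (haT : a ∈ T)
    (hya : ⁅y, a⁆ ∉ Subgroup.center G) :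
    ∃ y' a' : G, Val k y' ∧ y' ∈ T ∧ a' ∈ T ∧ ⁅y', a'⁆ ∉ Subgroup.center G ∧
      ∀ b ∈ T, ⁅⁅y', a'⁆, b⁆ ∈ Subgroup.center G := by
  haveI := hT.isNilpotent
  obtain ⟨N, hN⟩ := (Subgroup.nilpotent_iff_lowerCentralSeries (G := T)).mp inferInstance
  suffices key : ∀ d j : ℕ, j + d = N → ∀ y a : T, Val k (y : G) →
      ⁅(y : G), (a : G)⁆ ∉ Subgroup.center G → ⁅y, a⁆ ∈ (⊤ : Subgroup T).lowerCentralSeries j →
      ∃ y' a' : G, Val k y' ∧ y' ∈ T ∧ a' ∈ T ∧ ⁅y', a'⁆ ∉ Subgroup.center G ∧
        ∀ b ∈ T, ⁅⁅y', a'⁆, b⁆ ∈ Subgroup.center G by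
    refine key N 0 (zero_add N) ⟨y, hyT⟩ ⟨a, haT⟩ hy hya ?_
    rw [Subgroup.lowerCentralSeries_zero]; trivial
  intro d
  induction d with
  | zero =>
    intro j hj y a _ hya hmem
    rw [show j = N by omega, hN, Subgroup.mem_bot] at hmem
    have h1 : ⁅(y : G), (a : G)⁆ = 1 := by
      have := congrArg T.subtype hmem
      rwa [map_commutatorElement, map_one] at this
    exact absurd (h1 ▸ one_mem _) hya
  | succ d ih =>
    intro j hj y a hy hya hmem
    by_cases hc : ∀ b ∈ T, ⁅⁅(y : G), (a : G)⁆, b⁆ ∈ Subgroup.center G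
    · exact ⟨y, a, hy, y.2, a.2, hya, hc⟩
    push Not at hc
    obtain ⟨b, hb, hcb⟩ := hc
    refine ih (j + 1) (by omega) ⁅y, a⁆ ⟨b, hb⟩ ?_ ?_ ?_
    · rw [show ((⁅y, a⁆ : T) : G) = ⁅(y : G), (a : G)⁆ from map_commutatorElement T.subtype y a]
      exact val_commutator _ hy
    · rw [show ((⁅y, a⁆ : T) : G) = ⁅(y : G), (a : G)⁆ from map_commutatorElement T.subtype y a]
      exact hcb
    · rw [Subgroup.lowerCentralSeries_succ]
      exact Subgroup.commutator_mem_commutator hmem (Subgroup.mem_top _)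

/-- An element of order `2` in a power of an element whose order is a power of `2`. -/
theorem exists_pow_two {X : Type u} [Group X] {c : X} (hc : c ≠ 1) {m : ℕ}
    (hm : orderOf c = 2 ^ m) : ∃ i : ℕ, orderOf (c ^ i) = 2 := by
  rcases m.eq_zero_or_pos with rfl | h
  · rw [pow_zero, orderOf_eq_one_iff] at hm; exact absurd hm hc
  · exact ⟨orderOf c / 2, orderOf_pow_orderOf_div (by rw [hm]; positivity)
      (hm ▸ dvd_pow_self 2 h.ne')⟩

section Even

variable [Finite G] {k : ℕ}

/-- A value of `2`-power order that is an involution modulo the centre. -/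
theorem exists_involution_value [IsSimpleGroup (G ⧸ Subgroup.center G)]
    (hnc : ¬ IsMulCommutative (G ⧸ Subgroup.center G))
    (h2 : 2 ∣ Nat.card (G ⧸ Subgroup.center G)) (k : ℕ) :
    ∃ v : G, Val k v ∧ (∃ n, orderOf v = 2 ^ n) ∧
      orderOf (QuotientGroup.mk' (Subgroup.center G) v) = 2 := by
  classical
  set Z := Subgroup.center G
  set π := QuotientGroup.mk' Z with hπ
  have hnp : ¬ Transfer.LocallyPTrivial 2 (G ⧸ Z) := by
    rw [← Transfer.hasNormalPComplement_iff_locallyPTrivial, Transfer.hasNormalPComplement_iff]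
    intro h
    haveI : (pResidual 2 (G ⧸ Z)).Normal := Transfer.pResidual_normal
    rcases (inferInstance : (pResidual 2 (G ⧸ Z)).Normal).eq_bot_or_eq_top with e | e
    · have hq := Transfer.isPGroup_quotient_pResidual (p := 2) (G := G ⧸ Z)
      haveI := hq.isNilpotent
      haveI : Group.IsNilpotent (G ⧸ Z) := Group.nilpotent_of_mulEquiv
        ((QuotientGroup.quotientMulEquivOfEq e).trans QuotientGroup.quotientBot)
      exact hnc ⟨⟨IsSimpleGroup.comm_iff_isSolvable.mpr inferInstance⟩⟩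
    · rw [e, Subgroup.card_top] at h
      exact h h2
  simp only [Transfer.LocallyPTrivial, not_forall] at hnp
  obtain ⟨Qb, hQb, gb, hgb, hcop, hgc⟩ := hnp
  set E := Qb.comap π with hE
  haveI : Group.IsNilpotent E := by
    haveI := hQb.isNilpotent
    refine Subgroup.isNilpotent_of_ker_le_center
      ((π.comp E.subtype).codRestrict Qb fun x => x.2) fun x hx => ?_
    have h1 : (x : G) ∈ Z := (mk_eq_one_iff _).mp (congrArg Subtype.val (MonoidHom.mem_ker.mp hx))
    exact Subgroup.mem_center_iff.mpr fun y => Subtype.ext (Subgroup.mem_center_iff.mp h1 y)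
  obtain ⟨P⟩ : Nonempty (Sylow 2 E) := inferInstance
  haveI : (P : Subgroup E).Normal :=
    Sylow.normal_of_normalizerCondition Group.normalizerCondition_of_isNilpotent P
  haveI := Sylow.unique_of_normal P inferInstance
  set T := (P : Subgroup E).map E.subtype with hTdef
  have hT : IsPGroup 2 T := P.2.map _
  have hTmem : ∀ x : G, x ∈ E → ∀ n : ℕ, orderOf x = 2 ^ n → x ∈ T := by
    intro x hx n hn
    obtain ⟨S, hS⟩ := (IsPGroup.of_card (n := n) (G := Subgroup.zpowers (⟨x, hx⟩ : E))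
      (by rw [Nat.card_zpowers, ← Subgroup.orderOf_coe, hn])).exists_le_sylow
    obtain rfl : S = P := Subsingleton.elim _ _
    exact ⟨_, hS (Subgroup.mem_zpowers _), rfl⟩
  have hTord : ∀ x ∈ T, ∃ n : ℕ, orderOf x = 2 ^ n := fun x hx => by
    obtain ⟨n, hn⟩ := IsPGroup.iff_orderOf.mp hT ⟨x, hx⟩
    exact ⟨n, by rw [← hn, ← Subgroup.orderOf_coe]⟩
  have hTQ : ∀ x ∈ T, π x ∈ Qb := fun x hx => by
    have h1 : x ∈ E := Subgroup.map_subtype_le _ hx
    exact h1
  have hlift : ∀ q ∈ Qb, ∃ x ∈ T, π x = q := by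
    intro q hq
    obtain ⟨x, hx⟩ := QuotientGroup.mk'_surjective Z q
    obtain ⟨n, hn⟩ := IsPGroup.iff_orderOf.mp hQb ⟨q, hq⟩
    rw [← Subgroup.orderOf_coe] at hn
    obtain ⟨a, b, hb, hab⟩ := Nat.exists_eq_pow_mul_and_not_dvd (orderOf_pos x).ne' 2 (by norm_num)
    have hd : orderOf (π x) ∣ 2 ^ a := by
      have h1 := orderOf_map_dvd π x
      rw [hab] at h1
      refine Nat.Coprime.dvd_of_dvd_mul_right ?_ h1
      rw [hx, hn]
      exact (Nat.prime_two.coprime_iff_not_dvd.mpr hb).pow_left n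
    obtain ⟨c, hc1, hc2⟩ := exists_pow_lift π x (a := b) (b := 2 ^ a)
      ((Nat.prime_two.coprime_iff_not_dvd.mpr hb).symm.pow_right a) (by rw [mul_comm, hab]) hd
    obtain ⟨m, -, hm⟩ := (Nat.dvd_prime_pow Nat.prime_two).mp hc2
    refine ⟨x ^ c, hTmem _ ?_ m hm, hc1.trans hx⟩
    show π (x ^ c) ∈ Qb
    rw [hc1, hx]; exact hq
  -- a lift of odd order normalising `T`
  obtain ⟨g, hg⟩ := QuotientGroup.mk'_surjective Z gb
  obtain ⟨a, b, hb, hab⟩ := Nat.exists_eq_pow_mul_and_not_dvd (orderOf_pos g).ne' 2 (by norm_num)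
  obtain ⟨c, hc1, hc2⟩ := exists_pow_lift π g (a := 2 ^ a) (b := b)
    ((Nat.prime_two.coprime_iff_not_dvd.mpr hb).pow_left a) hab.dvd (by
      refine (Nat.Coprime.dvd_mul_left (?_ : (orderOf (π g)).Coprime (2 ^ a))).mp ?_
      · rw [hg]; exact hcop.pow_right a
      · rw [← hab]; exact orderOf_map_dvd π g)
  rw [hg] at hc1
  set t := g ^ c
  have htp : (orderOf t).Coprime 2 :=
    ((Nat.prime_two.coprime_iff_not_dvd.mpr hb).symm).coprime_dvd_left hc2
  have htT : t ∈ Subgroup.normalizer (T : Set G) := by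
    rw [Subgroup.mem_normalizer_iff]
    intro x
    have hord : orderOf (t * x * t⁻¹) = orderOf x := by
      rw [show t * x * t⁻¹ = MulAut.conj t x from rfl, MulEquiv.orderOf_eq]
    have hE' : x ∈ E ↔ t * x * t⁻¹ ∈ E := by
      rw [hE, Subgroup.mem_comap, Subgroup.mem_comap, map_mul, map_mul, map_inv, hc1]
      exact Subgroup.mem_normalizer_iff.mp hgb _
    constructor
    · intro hx
      obtain ⟨n, hn⟩ := hTord x hx
      exact hTmem _ (hE'.mp (Subgroup.map_subtype_le _ hx)) n (hord.trans hn)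
    · intro hx
      obtain ⟨n, hn⟩ := hTord _ hx
      exact hTmem _ (hE'.mpr (Subgroup.map_subtype_le _ hx)) n (hord.symm.trans hn)
  by_cases hA : ∃ y a : G, Val k y ∧ y ∈ T ∧ a ∈ T ∧ ⁅y, a⁆ ∉ Z
  · obtain ⟨y, a, hy, hyT, haT, hya⟩ := hA
    obtain ⟨y', a', hy', hyT', haT', hne, hcen⟩ := exists_central_value T hT hy hyT haT hya
    have hpow : ∀ i : ℕ, π ⁅y', a' ^ i⁆ = π ⁅y', a'⁆ ^ i := by
      intro i
      induction i with
      | zero => simp
      | succ i ih =>
        have h1 : ⁅y', a' ^ (i + 1)⁆ = ⁅y', a'⁆ * (a' * ⁅y', a' ^ i⁆ * a'⁻¹) := by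
          rw [pow_succ', commutatorElement_def, commutatorElement_def, commutatorElement_def]
          group
        have h2 : Commute (π a') (π ⁅y', a'⁆ ^ i) :=
          ((mk_commute_iff _ _).mpr (hcen a' haT')).symm.pow_right i
        rw [h1, map_mul, map_mul, map_mul, map_inv, ih, h2.eq, mul_inv_cancel_right, pow_succ']
    have hcT : ∀ b ∈ T, ⁅y', b⁆ ∈ T := fun b hb => by
      rw [commutatorElement_def]
      exact mul_mem (mul_mem (mul_mem hyT' hb) (inv_mem hyT')) (inv_mem hb)
    obtain ⟨m, hm⟩ := hTord _ (hcT a' haT')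
    obtain ⟨j, -, hj⟩ := (Nat.dvd_prime_pow Nat.prime_two).mp ((orderOf_map_dvd π _).trans hm.dvd)
    obtain ⟨i, hi⟩ := exists_pow_two (fun h => hne ((mk_eq_one_iff _).mp h)) hj
    refine ⟨⁅y', a' ^ i⁆, val_commutator _ hy', hTord _ (hcT _ (pow_mem haT' i)), ?_⟩
    rw [hpow i]; exact hi
  · push Not at hA
    -- values in `T` are central modulo the centre
    obtain ⟨q, hq, hqc⟩ : ∃ q ∈ T, ¬ Commute (π q) gb := by
      by_contra hc
      push Not at hc
      refine hgc (Subgroup.mem_centralizer_iff.mpr fun q hq => ?_)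
      obtain ⟨x, hx, rfl⟩ := hlift q hq
      exact (hc x hx).eq
    let f : G → G := fun w => ⁅w, t⁆
    let fb : G ⧸ Z → G ⧸ Z := fun w => ⁅w, gb⁆
    have hsemi : ∀ j x, π (f^[j] x) = fb^[j] (π x) := fun j x =>
      Function.Semiconj.iterate_right (f := π) (ga := f) (gb := fb) (fun w => by
        show π ⁅w, t⁆ = ⁅π w, gb⁆
        rw [map_commutatorElement, hc1]) j x
    have hne : ∀ j, fb^[j] (π q) ≠ 1 := fun j h =>
      hqc (commute_of_iterate hQb hgb hcop j (hTQ q hq) h)
    -- the centre of `Qb`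
    set A : Subgroup (G ⧸ Z) := Qb ⊓ Subgroup.centralizer (Qb : Set (G ⧸ Z)) with hA'
    have hfA : ∀ w ∈ A, fb w ∈ A := by
      intro w hw
      have hconj : gb * w⁻¹ * gb⁻¹ ∈ A := by
        refine ⟨(Subgroup.mem_normalizer_iff.mp hgb _).mp (inv_mem hw.1),
          Subgroup.mem_centralizer_iff.mpr fun z hz => ?_⟩
        have hz' : gb⁻¹ * z * gb ∈ Qb := (Subgroup.mem_normalizer_iff''.mp hgb _).mp hz
        have h1 := Subgroup.mem_centralizer_iff.mp (inv_mem hw.2) _ hz'
        calc z * (gb * w⁻¹ * gb⁻¹) = gb * ((gb⁻¹ * z * gb) * w⁻¹) * gb⁻¹ := by group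
          _ = gb * (w⁻¹ * (gb⁻¹ * z * gb)) * gb⁻¹ := by rw [h1]
          _ = gb * w⁻¹ * gb⁻¹ * z := by group
      show ⁅w, gb⁆ ∈ A
      rw [commutatorElement_def, show w * gb * w⁻¹ * gb⁻¹ = w * (gb * w⁻¹ * gb⁻¹) by group]
      exact mul_mem hw hconj
    let φ : A →* A :=
      { toFun := fun w => ⟨fb w, hfA w w.2⟩
        map_one' := Subtype.ext (by simp [fb])
        map_mul' := fun a b => Subtype.ext (by
          show ⁅(a : G ⧸ Z) * b, gb⁆ = ⁅(a : G ⧸ Z), gb⁆ * ⁅(b : G ⧸ Z), gb⁆
          have h1 : Commute (a : G ⧸ Z) ⁅(b : G ⧸ Z), gb⁆ :=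
            Subgroup.mem_centralizer_iff.mp (hfA b b.2).2 a a.2.1
          have h2 : Commute ⁅(a : G ⧸ Z), gb⁆ ⁅(b : G ⧸ Z), gb⁆ :=
            Subgroup.mem_centralizer_iff.mp (hfA b b.2).2 _ (hfA a a.2).1
          rw [show ⁅(a : G ⧸ Z) * b, gb⁆ = (a : G ⧸ Z) * ⁅(b : G ⧸ Z), gb⁆ * (a : G ⧸ Z)⁻¹ *
              ⁅(a : G ⧸ Z), gb⁆ by simp only [commutatorElement_def]; group,
            h1.eq, mul_inv_cancel_right, h2.eq]) }
    have hφit : ∀ j (w : A), ((φ^[j] w : A) : G ⧸ Z) = fb^[j] (w : G ⧸ Z) := by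
      intro j w
      exact Function.Semiconj.iterate_right (f := fun z : A => (z : G ⧸ Z)) (ga := φ) (gb := fb)
        (fun z => rfl) j w
    have hwA : π (f^[k] q) ∈ A := by
      have hmem : f^[k] q ∈ T := iterate_mem htT hq k
      refine ⟨hTQ _ hmem, Subgroup.mem_centralizer_iff.mpr fun z hz => ?_⟩
      obtain ⟨x, hx, rfl⟩ := hlift z hz
      exact ((mk_commute_iff _ _).mpr (hA _ x (val_iterate t q) hmem hx)).symm.eq
    set w₀ : A := φ^[k] ⟨_, hwA⟩ with hw₀
    have hw₀1 : (w₀ : G ⧸ Z) ≠ 1 := by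
      rw [hw₀, hφit]
      show fb^[k] (π (f^[k] q)) ≠ 1
      rw [hsemi, ← Function.iterate_add_apply]
      exact hne _
    obtain ⟨m, hm⟩ := IsPGroup.iff_orderOf.mp hQb ⟨(w₀ : G ⧸ Z), w₀.2.1⟩
    rw [← Subgroup.orderOf_coe] at hm
    obtain ⟨i, hi⟩ := exists_pow_two hw₀1 hm
    obtain ⟨x, hx, hxe⟩ := hlift ((⟨_, hwA⟩ : A) ^ i : A) (((⟨_, hwA⟩ : A) ^ i : A).2.1)
    refine ⟨f^[k] x, val_iterate t x, hTord _ (iterate_mem htT hx k), ?_⟩
    rw [hsemi, hxe, ← hφit, iterate_map_pow, ← hw₀, SubmonoidClass.coe_pow]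
    exact hi

/-- The quotient by the centre has odd order. -/
theorem odd_card_quotient [IsSimpleGroup (G ⧸ Subgroup.center G)]
    (hnc : ¬ IsMulCommutative (G ⧸ Subgroup.center G)) (hG : Good k G) :
    Odd (Nat.card (G ⧸ Subgroup.center G)) := by
  classical
  set Z := Subgroup.center G
  set π := QuotientGroup.mk' Z with hπ
  by_contra hodd
  have h2 : 2 ∣ Nat.card (G ⧸ Z) := (Nat.not_odd_iff_even.mp hodd).two_dvd
  obtain ⟨v, hv, ⟨n, hvn⟩, hv2⟩ := exists_involution_value hnc h2 k
  have hvv : π v * π v = 1 := by rw [← pow_two, ← hv2, pow_orderOf_eq_one]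
  have hnot : ¬ ∀ g : G ⧸ Z, IsPGroup 2 (Subgroup.closure ({π v, g * π v * g⁻¹} : Set (G ⧸ Z))) := by
    intro h
    obtain ⟨N, hN, hNp, hvN⟩ := Involution.baer_suzuki_element (π v) h
    rcases hN.eq_bot_or_eq_top with rfl | rfl
    · rw [Subgroup.mem_bot] at hvN
      rw [hvN, orderOf_one] at hv2
      norm_num at hv2
    · haveI := (hNp.of_equiv Subgroup.topEquiv).isNilpotent
      exact hnc ⟨⟨IsSimpleGroup.comm_iff_isSolvable.mpr inferInstance⟩⟩
  push Not at hnot
  obtain ⟨g, hg⟩ := hnot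
  set w := g * π v * g⁻¹ with hw
  have hww : w * w = 1 := by rw [hw, conj_mul, hvv]; simp
  set r := π v * w with hr
  have hrinv : π v * r * (π v)⁻¹ = r⁻¹ := by
    rw [hr, inv_eq_of_mul_eq_one_left hvv, mul_inv_rev, inv_eq_of_mul_eq_one_left hvv,
      inv_eq_of_mul_eq_one_left hww, ← mul_assoc, hvv, one_mul]
  obtain ⟨p, hp, hp2, hpd⟩ : ∃ p, p.Prime ∧ p ≠ 2 ∧ p ∣ orderOf r := by
    by_contra hc
    push Not at hc
    refine hg ?_
    have hrp : ∃ m, orderOf r = 2 ^ m := ⟨_, Nat.eq_prime_pow_of_unique_prime_dvd (orderOf_pos r).ne'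
      fun {d} hd hdd => by_contra fun hne => hc d hd hne hdd⟩
    have hZp : IsPGroup 2 (Subgroup.zpowers r) :=
      let ⟨m, hm⟩ := hrp
      IsPGroup.of_card (n := m) (by rw [Nat.card_zpowers, hm])
    have hVp : IsPGroup 2 (Subgroup.zpowers (π v)) :=
      IsPGroup.of_card (n := 1) (by rw [Nat.card_zpowers, hv2, pow_one])
    have hnorm : Subgroup.zpowers (π v) ≤ Subgroup.normalizer (Subgroup.zpowers r : Set (G ⧸ Z)) := by
      rw [Subgroup.zpowers_le, Subgroup.mem_normalizer_iff_map_conj_eq, MonoidHom.map_zpowers]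
      show Subgroup.zpowers (π v * r * (π v)⁻¹) = _
      rw [hrinv, Subgroup.zpowers_inv]
    refine (hVp.to_sup_of_normal_right' hZp hnorm).to_le ((Subgroup.closure_le _).mpr ?_)
    intro z hz
    simp only [Set.mem_insert_iff, Set.mem_singleton_iff] at hz
    rcases hz with rfl | rfl
    · exact Subgroup.mem_sup_left (Subgroup.mem_zpowers _)
    · have h1 : w = π v * r := by rw [hr, ← mul_assoc, hvv, one_mul]
      rw [h1]
      exact mul_mem (Subgroup.mem_sup_left (Subgroup.mem_zpowers _))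
        (Subgroup.mem_sup_right (Subgroup.mem_zpowers _))
  haveI := Fact.mk hp
  set xb := r ^ (orderOf r / p)
  have hxb : orderOf xb = p := orderOf_pow_orderOf_div (orderOf_pos r).ne' hpd
  have hxinv : π v * xb * (π v)⁻¹ = xb⁻¹ := by rw [← conj_pow, hrinv, inv_pow]
  obtain ⟨x₀, hx₀⟩ := QuotientGroup.mk'_surjective Z xb
  obtain ⟨a, b, hb, hab⟩ := Nat.exists_eq_pow_mul_and_not_dvd (orderOf_pos x₀).ne' p hp.ne_one
  obtain ⟨c, hc1, hc2⟩ := exists_pow_lift π x₀ (a := b) (b := p ^ a)
    ((hp.coprime_iff_not_dvd.mpr hb).symm.pow_right a) (by rw [mul_comm, hab]) (by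
      refine Nat.Coprime.dvd_of_dvd_mul_right (?_ : (orderOf (π x₀)).Coprime b) ?_
      · rw [hx₀, hxb]; exact hp.coprime_iff_not_dvd.mpr hb
      · rw [← hab]; exact orderOf_map_dvd π x₀)
  rw [hx₀] at hc1
  set x := x₀ ^ c
  set y := v * x * v⁻¹ with hy
  have hyx : π (y * x) = 1 := by
    rw [hy, map_mul, map_mul, map_mul, map_inv, hc1, hxinv, inv_mul_cancel]
  have hcomm : Commute x y := by
    have h1 : y * x ∈ Z := (mk_eq_one_iff _).mp hyx
    have h2 : y = (y * x) * x⁻¹ := by group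
    rw [h2]
    exact Commute.mul_right (Subgroup.mem_center_iff.mp h1 x) ((Commute.refl x).inv_right)
  have hcm : ⁅x, v⁆ = x * y⁻¹ := by rw [hy, commutatorElement_def]; group
  have hord : orderOf ⁅x, v⁆ ∣ p ^ a := by
    rw [hcm]
    refine (hcomm.inv_right.orderOf_mul_dvd_lcm).trans (Nat.lcm_dvd hc2 ?_)
    rw [orderOf_inv, hy, show v * x * v⁻¹ = MulAut.conj v x from rfl, MulEquiv.orderOf_eq]
    exact hc2
  have hc := hG v x hv (Nat.Coprime.coprime_dvd_left hord (by
    rw [hvn]; exact Nat.Coprime.pow _ _ ((Nat.coprime_primes hp Nat.prime_two).mpr hp2)))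
  have h3 : Commute (π x) (π v) := hc.map π
  rw [hc1] at h3
  rw [← h3.eq, mul_inv_cancel_right, eq_inv_iff_mul_eq_one, ← pow_two] at hxinv
  have := hxb ▸ orderOf_dvd_of_pow_eq_one hxinv
  exact hp2 ((Nat.prime_dvd_prime_iff_eq hp Nat.prime_two).mp this)

end Even

/-- The setting of the counting argument. -/
theorem tiSetup [Finite G] {k : ℕ} (hG : Good k G)
    (hprop : ∀ H : Subgroup G, H ≠ ⊤ → Group.IsNilpotent ((⊤ : Subgroup H).lowerCentralSeries k))
    (hperf : commutator G = ⊤) [IsSimpleGroup (G ⧸ Subgroup.center G)]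
    (hnc : ¬ IsMulCommutative (G ⧸ Subgroup.center G)) : TISetup (G ⧸ Subgroup.center G) := by
  classical
  set Z := Subgroup.center G
  set π := QuotientGroup.mk' Z with hπ
  have hsurj : Function.Surjective π := QuotientGroup.mk'_surjective Z
  have hpre : ∀ Mb : Subgroup (G ⧸ Z), Mb ≠ ⊤ → Mb.comap π ≠ ⊤ := fun Mb h e =>
    h (Subgroup.comap_injective hsurj (e.trans (Subgroup.comap_top π).symm))
  let ρ : ∀ Mb : Subgroup (G ⧸ Z), Mb.comap π →* Mb :=
    fun Mb => (π.comp (Mb.comap π).subtype).codRestrict Mb fun x => x.2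
  have hρ : ∀ Mb, Function.Surjective (ρ Mb) := fun Mb ⟨m, hm⟩ => by
    obtain ⟨x, rfl⟩ := hsurj m
    exact ⟨⟨x, hm⟩, rfl⟩
  refine ⟨inferInstance, hnc, fun Mb hMb => ⟨k, ?_⟩, fun p hp Pb hPb => ?_⟩
  · rw [← Subgroup.map_top_of_surjective _ (hρ Mb), ← Subgroup.map_lowerCentralSeries]
    haveI := hprop _ (hpre Mb hMb.1)
    haveI : (((⊤ : Subgroup (Mb.comap π)).lowerCentralSeries k).map (ρ Mb)).Normal :=
      (Subgroup.lowerCentralSeries_normal _ k).map _ (hρ Mb)
    exact Lib.Fitting.le_fittingSubgroup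
      (Group.nilpotent_of_surjective _ ((ρ Mb).subgroupMap_surjective _))
  · haveI := Fact.mk hp
    obtain ⟨P₁⟩ : Nonempty (Sylow p G) := inferInstance
    obtain ⟨gb, hgb⟩ := MulAction.exists_smul_eq (G ⧸ Z) (P₁.mapSurjective hsurj) Pb
    obtain ⟨g, rfl⟩ := hsurj gb
    set P := g • P₁
    have hP : (P : Subgroup G).map π = (Pb : Subgroup (G ⧸ Z)) := by
      rw [← hgb, Sylow.coe_subgroup_smul, Sylow.coe_subgroup_smul, Sylow.coe_mapSurjective]
      ext z
      simp only [Subgroup.mem_map, Subgroup.mem_pointwise_smul_iff_inv_smul_mem]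
      constructor
      · rintro ⟨x, hx, rfl⟩
        exact ⟨_, hx, by simp [MulAut.smul_def]⟩
      · rintro ⟨x, hx, hxz⟩
        refine ⟨g * x * g⁻¹, by simpa [MulAut.smul_def, mul_assoc] using hx, ?_⟩
        rw [map_mul, map_mul, map_inv, hxz]
        simp [MulAut.smul_def, mul_assoc]
    have hpd : p ∣ Nat.card (G ⧸ Z) := by
      obtain ⟨m, hm⟩ := IsPGroup.iff_card.mp Pb.2
      rcases m.eq_zero_or_pos with rfl | hm0
      · exact absurd (Subgroup.card_eq_one.mp (by rw [hm, pow_zero])) hPb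
      · exact ((dvd_pow_self p hm0.ne').trans hm.symm.dvd).trans (Subgroup.card_subgroup_dvd_card _)
    obtain ⟨y₀, hy₀, ⟨n₀, hn₀⟩, hy₀Z⟩ := exists_value k hperf Z p hpd
    obtain ⟨S, hS⟩ := (IsPGroup.of_card (n := n₀) (G := Subgroup.zpowers y₀)
      (by rw [Nat.card_zpowers, hn₀])).exists_le_sylow
    obtain ⟨c, hc⟩ := MulAction.exists_smul_eq G S P
    have hy₁P : c * y₀ * c⁻¹ ∈ (P : Subgroup G) := by
      rw [← hc, Sylow.coe_subgroup_smul]
      exact Subgroup.smul_mem_pointwise_smul _ (MulAut.conj c) _ (hS (Subgroup.mem_zpowers _))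
    have hy₁Z : c * y₀ * c⁻¹ ∉ Z := fun h => hy₀Z (by
      have h1 := (inferInstance : Z.Normal).conj_mem _ h c⁻¹
      simpa [mul_assoc] using h1)
    obtain ⟨y, hy, hyP, hyZ, hcen⟩ : ∃ y : G, Val k y ∧ y ∈ (P : Subgroup G) ∧ y ∉ Z ∧
        ∀ b ∈ (P : Subgroup G), ⁅y, b⁆ ∈ Z := by
      by_cases h : ∀ b ∈ (P : Subgroup G), ⁅c * y₀ * c⁻¹, b⁆ ∈ Z
      · exact ⟨_, val_conj c hy₀, hy₁P, hy₁Z, h⟩
      push Not at h
      obtain ⟨b, hb, hb'⟩ := h
      obtain ⟨y', a', hy', hyT, haT, hne, hcen⟩ :=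
        exists_central_value (P : Subgroup G) P.2 (val_conj c hy₀) hy₁P hb hb'
      refine ⟨_, val_commutator a' hy', ?_, hne, hcen⟩
      rw [commutatorElement_def]
      exact mul_mem (mul_mem (mul_mem hyT haT) (inv_mem hyT)) (inv_mem haT)
    have hyb : π y ≠ 1 := fun h => hyZ ((mk_eq_one_iff _).mp h)
    have hzc : ∀ x ∈ (Pb : Subgroup (G ⧸ Z)), Commute x (π y) := by
      intro x hx
      rw [← hP] at hx
      obtain ⟨b, hb, rfl⟩ := hx
      exact ((mk_commute_iff _ _).mpr (hcen b hb)).symm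
    refine ⟨π y, hP ▸ Subgroup.mem_map_of_mem π hyP, hyb, hzc, fun M M' hM hM' hyM hyM' => ?_⟩
    have hsub : ∀ Y : Subgroup (G ⧸ Z), Y ≠ ⊤ → Subgroup.zpowers (π y) ≤ Y →
        ((Subgroup.zpowers (π y)).subgroupOf Y).IsSubnormal := by
      intro Y hY hle
      have hyH : y ∈ Y.comap π := hle (Subgroup.mem_zpowers _)
      haveI : Group.IsSolvable (Y.comap π) := isSolvable_of_lcs_nilpotent (hprop _ (hpre Y hY))
      obtain ⟨n, hn⟩ := IsPGroup.iff_orderOf.mp P.2 ⟨y, hyP⟩
      rw [← Subgroup.orderOf_coe] at hn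
      have hF := mem_fitting_of_value (G := Y.comap π) (good_subgroup hG _)
        Lib.Fitting.centralizer_fittingSubgroup_le
        (fun R hR hcop z hz => commute_of_good hG hy hn _ hyH R hR hcop z hz)
        (y := ⟨y, hyH⟩) (by rw [← Subgroup.orderOf_coe]; exact hn)
      have hF' := Lib.Fitting.map_fittingSubgroup_le (hρ Y) (Subgroup.mem_map_of_mem (ρ Y) hF)
      haveI := fittingSubgroup_normal' Y
      haveI := Lib.Fitting.fittingSubgroup_isNilpotent (G := Y)
      refine Subgroup.IsSubnormal.trans (K := fittingSubgroup Y) ?_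
        (S3937.isSubnormal_of_nilpotent _) (fittingSubgroup_normal' Y).isSubnormal
      intro z hz
      obtain ⟨j, hj⟩ := Subgroup.mem_zpowers_iff.mp hz
      have h1 : z = (ρ Y ⟨y, hyH⟩) ^ j := Subtype.ext (by
        show (z : G ⧸ Z) = _
        rw [← show (π y) ^ j = (z : G ⧸ Z) from hj]
        rfl)
      rw [h1]
      exact zpow_mem hF' j
    have hA : ¬ (Subgroup.zpowers (π y)).IsSubnormal := fun h => by
      rcases h.eq_bot_or_top_of_isSimpleGroup inferInstance with e | e
      · exact hyb (Subgroup.zpowers_eq_bot.mp e)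
      · haveI : IsCyclic (G ⧸ Z) := ⟨⟨π y, fun a => (e ▸ Subgroup.mem_top a : a ∈ Subgroup.zpowers _)⟩⟩
        exact hnc ⟨⟨IsCyclic.commGroup.mul_comm⟩⟩
    obtain ⟨M₀, -, -, huniq⟩ := Zipper.zipper (Subgroup.zpowers (π y)) hsub hA
    rw [huniq M hM (Subgroup.zpowers_le.mpr hyM), huniq M' hM' (Subgroup.zpowers_le.mpr hyM')]

theorem nilpotent_of_good_aux (n : ℕ) : ∀ (G : Type u) [Group G] [Finite G], Nat.card G = n →
    ∀ k : ℕ, Good k G → Group.IsNilpotent ((⊤ : Subgroup G).lowerCentralSeries k) := by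
  induction n using Nat.strong_induction_on with
  | _ n ih =>
    intro G _ _ hn k hG
    subst hn
    by_cases hs : Group.IsSolvable G
    · exact nilpotent_of_solvable hG
    exfalso
    classical
    have hprop : ∀ H : Subgroup G, H ≠ ⊤ →
        Group.IsNilpotent ((⊤ : Subgroup H).lowerCentralSeries k) := fun H hH =>
      ih _ (lt_of_le_of_ne (Subgroup.card_le_card_group H) fun e => hH (Subgroup.eq_top_of_card_eq H e))
        H rfl k (good_subgroup hG H)
    have hsolv : ∀ H : Subgroup G, H ≠ ⊤ → Group.IsSolvable H := fun H hH =>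
      isSolvable_of_lcs_nilpotent (hprop H hH)
    have hext : ∀ N : Subgroup G, ∀ [N.Normal], N ≠ ⊤ → Group.IsSolvable (G ⧸ N) → False := by
      intro N _ hN hq
      haveI := hsolv N hN
      exact hs (Group.isSolvable_of_ker_le_range N.subtype (QuotientGroup.mk' N) (by simp))
    have hperf : commutator G = ⊤ := by
      by_contra h
      refine hext (commutator G) h ?_
      exact Group.isSolvable_of_comm fun a b => (Abelianization.commGroup (G := G)).mul_comm a b
    haveI : Nontrivial G := not_subsingleton_iff_nontrivial.mp fun h =>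
      hs (Group.isSolvable_of_comm fun a b => Subsingleton.elim _ _)
    haveI := Fintype.ofFinite (Subgroup G)
    obtain ⟨M, hM, hMmax⟩ : ∃ M : Subgroup G, (M.Normal ∧ M ≠ ⊤) ∧
        ∀ N : Subgroup G, N.Normal ∧ N ≠ ⊤ → M ≤ N → N = M := by
      obtain ⟨M, hM, hmax⟩ := (Set.toFinite {N : Subgroup G | N.Normal ∧ N ≠ ⊤}).exists_maximal
        ⟨⊥, inferInstance, bot_ne_top⟩
      exact ⟨M, hM, fun N hN hle => le_antisymm (hmax hN hle) hle⟩
    obtain ⟨hMn, hMtop⟩ := hM
    haveI := hMn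
    haveI hsimp : IsSimpleGroup (G ⧸ M) := by
      haveI : Nontrivial (G ⧸ M) := QuotientGroup.nontrivial_iff.mpr hMtop
      refine ⟨fun K hK => ?_⟩
      haveI := hK
      by_cases hKt : K.comap (QuotientGroup.mk' M) = ⊤
      · right
        exact Subgroup.comap_injective (QuotientGroup.mk'_surjective M)
          (hKt.trans (Subgroup.comap_top _).symm)
      · left
        have h := hMmax _ ⟨inferInstance, hKt⟩ (fun x hx => by
          rw [Subgroup.mem_comap, QuotientGroup.mk'_apply, (QuotientGroup.eq_one_iff x).mpr hx]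
          exact one_mem K)
        refine Subgroup.comap_injective (QuotientGroup.mk'_surjective M) (h.trans ?_)
        rw [MonoidHom.comap_bot, QuotientGroup.ker_mk']
    -- every proper normal subgroup lies in `M`
    have hMle : ∀ N : Subgroup G, N.Normal → N ≠ ⊤ → N ≤ M := by
      intro N hN hNt
      haveI := hN
      by_contra hc
      rcases eq_or_ne (N ⊔ M) ⊤ with e | e
      · refine hext N hNt ?_
        haveI := hsolv M hMtop
        refine Group.isSolvable_of_surjective (f := (QuotientGroup.mk' N).comp M.subtype) ?_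
        intro z
        obtain ⟨g, rfl⟩ := QuotientGroup.mk'_surjective N z
        obtain ⟨a, ha, b, hb, rfl⟩ :=
          Subgroup.mem_sup_of_normal_left.mp (show g ∈ N ⊔ M from e ▸ Subgroup.mem_top g)
        refine ⟨⟨b, hb⟩, ?_⟩
        simp only [MonoidHom.comp_apply, map_mul]
        rw [show QuotientGroup.mk' N a = 1 from (QuotientGroup.eq_one_iff a).mpr ha, one_mul]
        rfl
      · exact hc (le_sup_left.trans (hMmax _ ⟨inferInstance, e⟩ le_sup_right).le)
    have hMZ : M = Subgroup.center G := by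
      have hZtop : Subgroup.center G ≠ ⊤ := fun h =>
        hs (Group.isSolvable_of_comm fun a b => Subgroup.mem_center_iff.mp (h ▸ Subgroup.mem_top b) a)
      refine le_antisymm ?_ (hMle _ inferInstance hZtop)
      haveI hsM := hsolv M hMtop
      haveI := Lib.Fitting.fittingSubgroup_normal (G := G)
      haveI := Lib.Fitting.fittingSubgroup_isNilpotent (G := G)
      have hFtop : fittingSubgroup G ≠ ⊤ := fun h => by
        have : Group.IsNilpotent (⊤ : Subgroup G) := h ▸ Lib.Fitting.fittingSubgroup_isNilpotent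
        haveI := Group.nilpotent_of_mulEquiv (Subgroup.topEquiv (G := G))
        exact hs inferInstance
      have hFZ : fittingSubgroup G ≤ Subgroup.center G := by
        intro f hf
        refine mem_of_ppow_pow fun e he => ?_
        obtain ⟨h1, r, m, hr, ho⟩ := he
        haveI := Fact.mk hr
        haveI : (pCore r G).Normal := Subgroup.sSup_normal _ (fun N h => h.1)
        obtain ⟨s, hs', hsd, hsr⟩ : ∃ s, s.Prime ∧ s ∣ Nat.card (G ⧸ M) ∧ s ≠ r := by
          by_contra hc
          push Not at hc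
          have hp : IsPGroup r (G ⧸ M) := IsPGroup.of_card
            (Nat.eq_prime_pow_of_unique_prime_dvd Nat.card_pos.ne' fun {d} hd hdd => hc d hd hdd)
          haveI := hp.isNilpotent
          exact hext M hMtop inferInstance
        haveI := Fact.mk hs'
        obtain ⟨y, hy, ⟨l, hl⟩, hyM⟩ := exists_value k hperf M s hsd
        have hyC : y ∈ Subgroup.centralizer (pCore r G : Set G) :=
          Subgroup.mem_centralizer_iff.mpr fun z hz =>
            (hG.commute_of_normalizes hy (R := pCore r G)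
              (by rw [Subgroup.normalizer_eq_top]; trivial)
              (by
                obtain ⟨j, hj⟩ := IsPGroup.iff_card.mp (PSolvable.pCore_isPGroup (p := r) (G := G))
                rw [hj, hl]
                exact Nat.Coprime.pow _ _ ((Nat.coprime_primes hr hs').mpr hsr.symm)) hz).eq
        have hCtop : Subgroup.centralizer (pCore r G : Set G) = ⊤ := by
          by_contra h
          exact hyM (hMle _ Subgroup.normal_centralizer h hyC)
        exact Subgroup.centralizer_eq_top_iff_subset.mp hCtop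
          (mem_pCore_of_mem (pow_mem hf e) ho)
      intro m hm
      have h1 : (⟨m, hm⟩ : M) ∈ fittingSubgroup M := by
        refine Lib.Fitting.centralizer_fittingSubgroup_le (Subgroup.mem_centralizer_iff.mpr ?_)
        intro f hf
        have hfG : (f : G) ∈ fittingSubgroup G := by
          have : (f : G) ∈ (fittingSubgroup M).map M.subtype := ⟨f, hf, rfl⟩
          rw [Lib.Fitting.map_subtype_fittingSubgroup_of_normal] at this
          exact this.1
        exact Subtype.ext (Subgroup.mem_center_iff.mp (hFZ hfG) m).symm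
      have h2 : m ∈ (fittingSubgroup M).map M.subtype := ⟨_, h1, rfl⟩
      rw [Lib.Fitting.map_subtype_fittingSubgroup_of_normal] at h2
      exact hFZ h2.1
    subst hMZ
    have hnc : ¬ IsMulCommutative (G ⧸ Subgroup.center G) := fun h =>
      hext _ hMtop (Group.isSolvable_of_comm h.is_comm.comm)
    have hodd := odd_card_quotient hnc hG
    have hCN := (tiSetup hG hprop hperf hnc).isCNGroup
    exact hext _ hMtop (CNTheorem.isSolvable_of_odd_cn hodd hCN)

theorem nilpotent_of_good {G : Type u} [Group G] [Finite G] {k : ℕ} (hG : Good k G) :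
    Group.IsNilpotent ((⊤ : Subgroup G).lowerCentralSeries k) :=
  nilpotent_of_good_aux _ G rfl k hG

end Cfsg.Agent.Lib.ValueCriterion
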