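import Cfsg.Agent.Lib.ValueCriterion.Home
import Cfsg.Agent.S3939
import Cfsg.Prelude.Def_LieExceptional

/-!
# Commuting elements of prime-power order have the same home
-/

set_option autoImplicit false

namespace Cfsg.Agent.Lib.ValueCriterion

open Cfsg
open scoped Pointwise commutatorElement

universe u

variable {Q : Type u} [Group Q]

/-- A non-trivial element of prime-power order. -/
def PPow (x : Q) : Prop := x ≠ 1 ∧ ∃ p n : ℕ, p.Prime ∧ orderOf x = p ^ n

theorem PPow.conj {x : Q} (hx : PPow x) (g : Q) : PPow (g * x * g⁻¹) := by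
  obtain ⟨h1, p, n, hp, ho⟩ := hx
  refine ⟨fun h => h1 (by simpa using h), p, n, hp, ?_⟩
  rw [show g * x * g⁻¹ = MulAut.conj g x from rfl, MulEquiv.orderOf_eq, ho]

theorem exists_ppow_pow [Finite Q] {x : Q} (hx : x ≠ 1) : ∃ e : ℕ, PPow (x ^ e) := by
  obtain ⟨p, hp, hpd⟩ := Nat.exists_prime_and_dvd (mt orderOf_eq_one_iff.mp hx)
  refine ⟨orderOf x / p, ?_, p, 1, hp, ?_⟩
  · rw [ne_eq, ← orderOf_eq_one_iff, orderOf_pow_orderOf_div (orderOf_pos x).ne' hpd]
    exact hp.ne_one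
  · rw [orderOf_pow_orderOf_div (orderOf_pos x).ne' hpd, pow_one]

/-- An element lies in a subgroup containing its powers of prime-power order. -/
theorem mem_of_ppow_pow [Finite Q] {x : Q} {H : Subgroup Q}
    (h : ∀ e : ℕ, PPow (x ^ e) → x ^ e ∈ H) : x ∈ H := by
  set A := H.subgroupOf (Subgroup.zpowers x) with hA
  suffices hi : A.index = 1 by
    have hm : (⟨x, Subgroup.mem_zpowers x⟩ : Subgroup.zpowers x) ∈ A := by
      rw [Subgroup.index_eq_one.mp hi]; trivial
    exact hm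
  by_contra hne
  obtain ⟨p, hp, hpd⟩ := Nat.exists_prime_and_dvd hne
  haveI := Fact.mk hp
  obtain ⟨S⟩ : Nonempty (Sylow p (Subgroup.zpowers x)) := inferInstance
  have hle : (S : Subgroup (Subgroup.zpowers x)) ≤ A := by
    intro s hs
    obtain ⟨n, hn⟩ := IsPGroup.iff_orderOf.mp S.2 ⟨s, hs⟩
    show (s : Q) ∈ H
    by_cases hs1 : (s : Q) = 1
    · rw [hs1]; exact one_mem H
    obtain ⟨e, he⟩ := mem_powers_iff_mem_zpowers.mpr s.2
    have he' : x ^ e = (s : Q) := he
    rw [← he']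
    refine h e ⟨fun hh => hs1 (he'.symm.trans hh), p, n, hp, ?_⟩
    rw [he', ← hn, Subgroup.orderOf_coe, ← Subgroup.orderOf_coe (⟨s, hs⟩ : (S : Subgroup _))]
  exact S.not_dvd_index (hpd.trans (Subgroup.index_dvd_of_le hle))

theorem card_sup_mul_card_inf {A B : Subgroup Q} (hB : B ≤ Subgroup.normalizer (A : Set Q)) :
    Nat.card (A ⊔ B : Subgroup Q) * Nat.card (A ⊓ B : Subgroup Q) = Nat.card A * Nat.card B := by
  haveI : (A.subgroupOf (A ⊔ B)).Normal :=
    Subgroup.normal_subgroupOf_of_le_normalizer (sup_le Subgroup.le_normalizer hB)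
  have e : A.relIndex (A ⊔ B) = A.relIndex B := by
    rw [← Subgroup.relIndex_subgroupOf (le_refl (A ⊔ B)), Subgroup.subgroupOf_sup le_sup_left le_sup_right,
      Subgroup.relIndex_sup_left, Subgroup.relIndex_subgroupOf le_sup_right]
  have h1 := PSolvable.card_mul_relIndex (le_sup_left : A ≤ A ⊔ B)
  have h2 := PSolvable.card_mul_relIndex (inf_le_right : A ⊓ B ≤ B)
  rw [Subgroup.inf_relIndex_right, ← e] at h2
  rw [← h1, ← h2]
  ring

theorem card_smul_eq [Finite Q] (g : Q) (M : Subgroup Q) :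
    Nat.card (fittingSubgroup (MulAut.conj g • M : Subgroup Q)) = Nat.card (fittingSubgroup M) := by
  set e : M ≃* (MulAut.conj g • M : Subgroup Q) := M.equivSMul (MulAut.conj g)
  rw [← Lib.Fitting.map_fittingSubgroup_equiv e]
  exact Subgroup.card_map_of_injective e.injective

variable [Finite Q]

namespace TISetup

variable (T : TISetup Q)

include T

theorem home_unique {x : Q} {M N : Subgroup Q} (hx : PPow x) (hM : Home x M) (hN : Home x N) :
    M = N := by
  obtain ⟨h1, p, n, hp, ho⟩ := hx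
  haveI := Fact.mk hp
  refine T.home_eq_of_pGroup (p := p) (H := Subgroup.zpowers x) ?_ (Subgroup.mem_zpowers x)
    (Subgroup.mem_zpowers x) h1 h1 hM hN
  exact IsPGroup.of_card (by rw [Nat.card_zpowers, ho])

theorem home_of_mem_fitIn' {x : Q} {M : Subgroup Q} (hx : PPow x) (hM : IsCoatom M)
    (hF : x ∈ fitIn M) : Home x M := by
  obtain ⟨h1, p, n, hp, ho⟩ := hx
  haveI := Fact.mk hp
  exact T.home_of_mem_fitIn hM hF ho h1

theorem mem_fitIn_of_home' {x : Q} {M : Subgroup Q} (hx : PPow x) (hM : Home x M) :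
    x ∈ fitIn M := by
  obtain ⟨h1, p, n, hp, ho⟩ := hx
  haveI := Fact.mk hp
  exact (T.mem_fitIn_of_home hM ho h1).1

/-- A coatom has a non-trivial Fitting subgroup, which is a Hall subgroup. -/
theorem fitIn_coprime {M : Subgroup Q} (hM : IsCoatom M) :
    (Nat.card (fittingSubgroup M)).Coprime (fittingSubgroup M).index := by
  refine Nat.coprime_of_dvd fun p hp hpc => ?_
  haveI := Fact.mk hp
  obtain ⟨y, hy⟩ := exists_prime_orderOf_dvd_card' p (G := fitIn M) (by rwa [card_fitIn])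
  have ho : orderOf (y : Q) = p ^ 1 := by rw [Subgroup.orderOf_coe, hy, pow_one]
  have h1 : (y : Q) ≠ 1 := fun h => by
    rw [h, orderOf_one, pow_one] at ho; exact hp.ne_one ho.symm
  exact (T.mem_fitIn_of_home (T.home_of_mem_fitIn hM y.2 ho h1) ho h1).2

/-- Homes of primes dividing the order of both Fitting subgroups are conjugate. -/
theorem exists_conj_of_dvd {p : ℕ} (hp : p.Prime) {M N : Subgroup Q} (hM : IsCoatom M)
    (hN : IsCoatom N) (hpM : p ∣ Nat.card (fittingSubgroup M))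
    (hpN : p ∣ Nat.card (fittingSubgroup N)) : ∃ g : Q, MulAut.conj g • M = N := by
  haveI := Fact.mk hp
  have key : ∀ {M : Subgroup Q}, IsCoatom M → p ∣ Nat.card (fittingSubgroup M) →
      ∃ y : Q, orderOf y = p ∧ Home y M := by
    intro M hM hpM
    obtain ⟨y, hy⟩ := exists_prime_orderOf_dvd_card' p (G := fitIn M) (by rwa [card_fitIn])
    have ho : orderOf (y : Q) = p ^ 1 := by rw [Subgroup.orderOf_coe, hy, pow_one]
    refine ⟨y, by rw [ho, pow_one], T.home_of_mem_fitIn hM y.2 ho fun h => ?_⟩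
    rw [h, orderOf_one, pow_one] at ho; exact hp.ne_one ho.symm
  obtain ⟨x, hxo, hxM⟩ := key hM hpM
  obtain ⟨y, hyo, hyN⟩ := key hN hpN
  have hxp : IsPGroup p (Subgroup.zpowers x) :=
    IsPGroup.of_card (n := 1) (by rw [Nat.card_zpowers, hxo, pow_one])
  have hyp : IsPGroup p (Subgroup.zpowers y) :=
    IsPGroup.of_card (n := 1) (by rw [Nat.card_zpowers, hyo, pow_one])
  obtain ⟨P, hP⟩ := hxp.exists_le_sylow
  obtain ⟨P', hP'⟩ := hyp.exists_le_sylow
  obtain ⟨g, rfl⟩ := MulAction.exists_smul_eq Q P P'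
  have hx1 : x ≠ 1 := fun h => by rw [h, orderOf_one] at hxo; exact hp.ne_one hxo.symm
  have hy1 : y ≠ 1 := fun h => by rw [h, orderOf_one] at hyo; exact hp.ne_one hyo.symm
  have hgx : g * x * g⁻¹ ∈ ((g • P : Sylow p Q) : Subgroup Q) := by
    rw [Sylow.coe_subgroup_smul]
    exact Subgroup.smul_mem_pointwise_smul _ (MulAut.conj g) _ (hP (Subgroup.mem_zpowers x))
  exact ⟨g, T.home_eq_of_pGroup (g • P : Sylow p Q).2 hgx (hP' (Subgroup.mem_zpowers y))
    (fun h => hx1 (by simpa using h)) hy1 (hxM.smul g) hyN⟩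

/-- A nilpotent subgroup lies in the home of each of its elements of prime-power order. -/
theorem nilpotent_le_home {L : Subgroup Q} [Group.IsNilpotent L] {d : Q} (hd : d ∈ L)
    (hpd : PPow d) {K : Subgroup Q} (hK : Home d K) : L ≤ K := by
  intro y hy
  refine mem_of_ppow_pow fun e he => ?_
  have hye : y ^ e ∈ L := pow_mem hy e
  obtain ⟨hy1, s, m, hs, hyo⟩ := he
  obtain ⟨hd1, r, n, hr, hdo⟩ := hpd
  by_cases hsr : s = r
  · subst hsr
    haveI := Fact.mk hs
    obtain ⟨S, hS⟩ := (IsPGroup.of_card (n := n) (G := Subgroup.zpowers (⟨d, hd⟩ : L))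
      (by rw [Nat.card_zpowers, ← Subgroup.orderOf_coe, hdo])).exists_le_sylow
    haveI : (S : Subgroup L).Normal :=
      Sylow.normal_of_normalizerCondition Group.normalizerCondition_of_isNilpotent S
    obtain ⟨S', hS'⟩ := (IsPGroup.of_card (n := m) (G := Subgroup.zpowers (⟨y ^ e, hye⟩ : L))
      (by rw [Nat.card_zpowers, ← Subgroup.orderOf_coe, hyo])).exists_le_sylow
    haveI := Sylow.unique_of_normal S inferInstance
    obtain rfl : S' = S := Subsingleton.elim _ _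
    obtain ⟨K', hK'⟩ := T.exists_home hy1
    have heq := T.home_eq_of_pGroup (S'.2.map L.subtype) ⟨_, hS' (Subgroup.mem_zpowers _), rfl⟩
      ⟨_, hS (Subgroup.mem_zpowers _), rfl⟩ hy1 hd1 hK' hK
    exact heq ▸ hK'.mem
  · have h := S3939.commute_of_coprime (a := (⟨y ^ e, hye⟩ : L)) (b := (⟨d, hd⟩ : L)) (by
      rw [← Subgroup.orderOf_coe, ← Subgroup.orderOf_coe, hyo, hdo]
      exact Nat.Coprime.pow _ _ ((Nat.coprime_primes hs hr).mpr hsr))
    exact hK.2 (Subgroup.mem_centralizer_singleton_iff.mpr (h.map L.subtype).eq)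

theorem isNilpotent_quotient {M : Subgroup Q} (hM : IsCoatom M) :
    haveI := fittingSubgroup_normal' M
    Group.IsNilpotent (M ⧸ fittingSubgroup M) := by
  haveI := fittingSubgroup_normal' M
  rw [Subgroup.nilpotent_iff_lowerCentralSeries]
  obtain ⟨k, hk⟩ := T.metanil M hM
  refine ⟨k, ?_⟩
  rw [← Subgroup.map_top_of_surjective _ (QuotientGroup.mk'_surjective (fittingSubgroup M)),
    ← Subgroup.map_lowerCentralSeries, Subgroup.map_eq_bot_iff, QuotientGroup.ker_mk']
  exact hk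

/-- Distinct homes of commuting elements have coprime Fitting subgroups and nilpotent
intersection. -/
theorem pair {x h : Q} (hx : PPow x) (hxh : Commute x h) {M N : Subgroup Q} (hM : Home x M)
    (hN : Home h N) (hne : M ≠ N) :
    x ∈ M ⊓ N ∧ h ∈ M ⊓ N ∧
      (Nat.card (fittingSubgroup M)).Coprime (Nat.card (fittingSubgroup N)) ∧
      Group.IsNilpotent (M ⊓ N : Subgroup Q) := by
  have hxN : x ∈ N := hN.2 (Subgroup.mem_centralizer_singleton_iff.mpr hxh.eq)
  have hhM : h ∈ M := hM.2 (Subgroup.mem_centralizer_singleton_iff.mpr hxh.symm.eq)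
  haveI := fittingSubgroup_normal' M
  haveI := fittingSubgroup_normal' N
  have hcop : (Nat.card (fittingSubgroup M)).Coprime (Nat.card (fittingSubgroup N)) := by
    refine Nat.coprime_of_dvd fun s hs hsM hsN => hne ?_
    obtain ⟨g, hg⟩ := T.exists_conj_of_dvd hs hM.1 hN.1 hsM hsN
    refine T.home_unique hx hM (T.home_of_mem_fitIn' hx hN.1 ?_)
    have hxF := T.mem_fitIn_of_home' hx hM
    refine mem_fitIn.mpr ⟨hxN, ?_⟩
    rw [← QuotientGroup.eq_one_iff, ← orderOf_eq_one_iff]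
    refine Nat.eq_one_of_dvd_coprimes (T.fitIn_coprime hN.1) ?_
      ((orderOf_dvd_natCard _).trans (Subgroup.index_eq_card _).symm.dvd)
    refine (orderOf_map_dvd (QuotientGroup.mk' (fittingSubgroup N)) (⟨x, hxN⟩ : N)).trans ?_
    rw [← Subgroup.orderOf_coe]
    show orderOf x ∣ _
    rw [← hg, card_smul_eq, ← card_fitIn]
    exact Subgroup.orderOf_dvd_natCard _ hxF
  refine ⟨⟨hM.mem, hxN⟩, ⟨hhM, hN.mem⟩, hcop, ?_⟩
  haveI := T.isNilpotent_quotient hM.1
  haveI := T.isNilpotent_quotient hN.1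
  let f : (M ⊓ N : Subgroup Q) →* (M ⧸ fittingSubgroup M) × (N ⧸ fittingSubgroup N) :=
    ((QuotientGroup.mk' _).comp (Subgroup.inclusion inf_le_left)).prod
      ((QuotientGroup.mk' _).comp (Subgroup.inclusion inf_le_right))
  refine Subgroup.isNilpotent_of_ker_le_center f fun a ha => ?_
  obtain ⟨h1, h2⟩ := Prod.ext_iff.mp (MonoidHom.mem_ker.mp ha)
  suffices a = 1 by rw [this]; exact one_mem _
  rw [← orderOf_eq_one_iff, ← Subgroup.orderOf_coe]
  refine Nat.eq_one_of_dvd_coprimes hcop ?_ ?_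
  · rw [← card_fitIn]
    exact Subgroup.orderOf_dvd_natCard _ (mem_fitIn.mpr ⟨_, (QuotientGroup.eq_one_iff _).mp h1⟩)
  · rw [← card_fitIn]
    exact Subgroup.orderOf_dvd_natCard _ (mem_fitIn.mpr ⟨_, (QuotientGroup.eq_one_iff _).mp h2⟩)

/-- Commuting elements of prime-power order have the same home. -/
theorem home_eq_of_commute {x h : Q} (hx : PPow x) (hh : PPow h) (hxh : Commute x h)
    {M N : Subgroup Q} (hM : Home x M) (hN : Home h N) : M = N := by
  classical
  by_contra hne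
  obtain ⟨hxD, hhD, -, hDnil⟩ := T.pair hx hxh hM hN hne
  set D := M ⊓ N with hD
  haveI := Fintype.ofFinite Q
  haveI := Fintype.ofFinite (Subgroup Q)
  set 𝒩 : Finset (Subgroup Q) :=
    Finset.univ.filter (fun K => ∃ d ∈ D, PPow d ∧ Home d K) with h𝒩
  have hmem : ∀ K : Subgroup Q, K ∈ 𝒩 ↔ ∃ d ∈ D, PPow d ∧ Home d K := fun K => by simp [h𝒩]
  have hDK : ∀ K ∈ 𝒩, D ≤ K := by
    intro K hK
    obtain ⟨d, hd, hdp, hdK⟩ := (hmem K).mp hK
    exact T.nilpotent_le_home hd hdp hdK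
  have hcoat : ∀ K ∈ 𝒩, IsCoatom K := fun K hK =>
    let ⟨_, _, _, hdK⟩ := (hmem K).mp hK; hdK.1
  -- two members
  have hpair : ∀ K ∈ 𝒩, ∀ K' ∈ 𝒩, K ≠ K' →
      (Nat.card (fittingSubgroup K)).Coprime (Nat.card (fittingSubgroup K')) ∧ K ⊓ K' = D := by
    intro K hK K' hK' hKK'
    obtain ⟨d, hd, hdp, hdK⟩ := (hmem K).mp hK
    obtain ⟨d', hd', hdp', hdK'⟩ := (hmem K').mp hK'
    have hcomm : Commute d d' := by
      obtain ⟨hd1, r, n, hr, hdo⟩ := id hdp
      obtain ⟨hd1', r', n', hr', hdo'⟩ := id hdp'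
      by_cases hrr : r = r'
      · subst hrr
        exfalso
        haveI := Fact.mk hr
        obtain ⟨S⟩ : Nonempty (Sylow r D) := inferInstance
        haveI : (S : Subgroup D).Normal :=
          Sylow.normal_of_normalizerCondition Group.normalizerCondition_of_isNilpotent S
        haveI := Sylow.unique_of_normal S inferInstance
        have hin : ∀ (c : Q) (hc : c ∈ D) (j : ℕ), orderOf c = r ^ j →
            c ∈ (S : Subgroup D).map D.subtype := by
          intro c hc j hj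
          obtain ⟨S', hS'⟩ := (IsPGroup.of_card (n := j) (G := Subgroup.zpowers (⟨c, hc⟩ : D))
            (by rw [Nat.card_zpowers, ← Subgroup.orderOf_coe, hj])).exists_le_sylow
          obtain rfl : S' = S := Subsingleton.elim _ _
          exact ⟨_, hS' (Subgroup.mem_zpowers _), rfl⟩
        exact hKK' (T.home_eq_of_pGroup (S.2.map D.subtype) (hin d hd n hdo) (hin d' hd' n' hdo')
          hd1 hd1' hdK hdK')
      · have h := S3939.commute_of_coprime (a := (⟨d, hd⟩ : D)) (b := (⟨d', hd'⟩ : D)) (by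
          rw [← Subgroup.orderOf_coe, ← Subgroup.orderOf_coe, hdo, hdo']
          exact Nat.Coprime.pow _ _ ((Nat.coprime_primes hr hr').mpr hrr))
        exact h.map D.subtype
    obtain ⟨-, -, hcop, hnil⟩ := T.pair hdp hcomm hdK hdK' hKK'
    refine ⟨hcop, le_antisymm (le_inf ?_ ?_) (le_inf (hDK K hK) (hDK K' hK'))⟩
    · exact T.nilpotent_le_home (L := K ⊓ K') ⟨hDK K hK hxD, hDK K' hK' hxD⟩ hx hM
    · exact T.nilpotent_le_home (L := K ⊓ K') ⟨hDK K hK hhD, hDK K' hK' hhD⟩ hh hN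
  have hnconj : ∀ K ∈ 𝒩, ∀ K' ∈ 𝒩, ∀ a : Q, MulAut.conj a • K = K' → K = K' := by
    intro K hK K' hK' a ha
    by_contra hc
    obtain ⟨hcop, -⟩ := hpair K hK K' hK' hc
    rw [← ha, card_smul_eq, Nat.coprime_self] at hcop
    obtain ⟨d, -, hdp, hdK⟩ := (hmem K).mp hK
    have := Subgroup.orderOf_dvd_natCard _ (T.mem_fitIn_of_home' hdp hdK)
    rw [card_fitIn, hcop, Nat.dvd_one, orderOf_eq_one_iff] at this
    exact hdp.1 this
  have hMN : M ∈ 𝒩 ∧ N ∈ 𝒩 :=
    ⟨(hmem M).mpr ⟨x, hxD, hx, hM⟩, (hmem N).mpr ⟨h, hhD, hh, hN⟩⟩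
  -- the factorisation of the members
  have hfac : ∀ K ∈ 𝒩, K ≤ fitIn K ⊔ D ∧ ¬ fitIn K ≤ D := by
    intro K hK
    obtain ⟨K', hK', hKK'⟩ : ∃ K' ∈ 𝒩, K' ≠ K := by
      by_cases hKM : K = M
      · exact ⟨N, hMN.2, fun e => hne (hKM ▸ e).symm⟩
      · exact ⟨M, hMN.1, Ne.symm hKM⟩
    obtain ⟨hcop, hinf⟩ := hpair K hK K' hK' (Ne.symm hKK')
    haveI := fittingSubgroup_normal' K
    haveI := T.isNilpotent_quotient (hcoat K hK)
    have hle : K ≤ fitIn K ⊔ D := by
      obtain ⟨L, hL⟩ := Subgroup.exists_right_complement'_of_coprime (T.fitIn_coprime (hcoat K hK))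
      obtain ⟨d, hd, hdp, hdK'⟩ := (hmem K').mp hK'
      have hdK : d ∈ K := hDK K hK hd
      obtain ⟨hd1, r, n, hr, hdo⟩ := id hdp
      haveI := Fact.mk hr
      haveI hLnil : Group.IsNilpotent L := Group.nilpotent_of_mulEquiv hL.symm.QuotientMulEquiv
      have hd'p : IsPGroup r (Subgroup.zpowers (⟨d, hdK⟩ : K)) :=
        IsPGroup.of_card (n := n) (by rw [Nat.card_zpowers, ← Subgroup.orderOf_coe, hdo])
      obtain ⟨S, hS⟩ := hd'p.exists_le_sylow
      obtain ⟨SL⟩ : Nonempty (Sylow r L) := inferInstance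
      have hrF : ¬ r ∣ Nat.card (fittingSubgroup K) := fun h =>
        hd1 (orderOf_eq_one_iff.mp (by
          have h1 := Subgroup.orderOf_dvd_natCard _ (T.mem_fitIn_of_home' hdp hdK')
          rw [card_fitIn, hdo] at h1
          rcases n.eq_zero_or_pos with rfl | hn
          · rw [hdo, pow_zero]
          · exact absurd (Nat.eq_one_of_dvd_coprimes hcop h ((dvd_pow_self r hn.ne').trans h1))
              hr.ne_one))
      have hcardL : Nat.card L = (fittingSubgroup K).index := by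
        rw [hL.symm.index_eq_card]
      set P₀ := (SL : Subgroup L).map L.subtype with hP₀
      have hP₀max : ∃ S₀ : Sylow r K, (S₀ : Subgroup K) = P₀ := by
        refine ⟨Sylow.ofCard P₀ ?_, Sylow.coe_ofCard _ _⟩
        rw [hP₀, Subgroup.card_map_of_injective L.subtype_injective, SL.card_eq_multiplicity,
          hcardL, ← Subgroup.card_mul_index (fittingSubgroup K),
          Nat.factorization_mul Nat.card_pos.ne' Subgroup.index_ne_zero_of_finite, Finsupp.add_apply,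
          Nat.factorization_eq_zero_of_not_dvd hrF, zero_add]
      obtain ⟨S₀, hS₀⟩ := hP₀max
      obtain ⟨k, hk⟩ := MulAction.exists_smul_eq K S₀ S
      -- after conjugating, `d` lies in the complement
      set L' := (MulAut.conj k • L : Subgroup K).map K.subtype with hL'
      haveI : Group.IsNilpotent L' := by
        haveI : Group.IsNilpotent (MulAut.conj k • L : Subgroup K) :=
          Group.nilpotent_of_mulEquiv (L.equivSMul (MulAut.conj k))
        exact Group.nilpotent_of_mulEquiv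
          ((MulAut.conj k • L : Subgroup K).equivMapOfInjective K.subtype K.subtype_injective)
      have hdL' : d ∈ L' := by
        refine ⟨⟨d, hdK⟩, ?_, rfl⟩
        have h1 : (⟨d, hdK⟩ : K) ∈ ((k • S₀ : Sylow r K) : Subgroup K) :=
          hk ▸ hS (Subgroup.mem_zpowers _)
        rw [Sylow.coe_subgroup_smul, hS₀] at h1
        exact Subgroup.pointwise_smul_le_pointwise_smul_iff.mpr (Subgroup.map_subtype_le _) h1
      have hL'D : L' ≤ D := hinf ▸
        le_inf (Subgroup.map_subtype_le _) (T.nilpotent_le_home hdL' hdp hdK')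
      have hsup : fittingSubgroup K ⊔ (MulAut.conj k • L : Subgroup K) = ⊤ := by
        have h1 : MulAut.conj k • (fittingSubgroup K ⊔ L) = (⊤ : Subgroup K) := by
          rw [hL.sup_eq_top, Subgroup.pointwise_smul_def]
          exact Subgroup.map_top_of_surjective _ (MulAut.conj k).surjective
        rw [Subgroup.smul_sup] at h1
        rwa [Subgroup.Normal.conj_smul_eq_self] at h1
      calc K = (⊤ : Subgroup K).map K.subtype := by rw [← MonoidHom.range_eq_map, K.range_subtype]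
        _ = fitIn K ⊔ L' := by rw [← hsup, Subgroup.map_sup]; rfl
        _ ≤ fitIn K ⊔ D := sup_le_sup_left hL'D _
    refine ⟨hle, fun hFD => hKK' ?_⟩
    have hKD : K ≤ K' := hle.trans (sup_le (hFD.trans (hDK K' hK')) (hDK K' hK'))
    exact ((hcoat K hK).le_iff.mp hKD).resolve_left (hcoat K' hK').1
  -- counting
  set w : Subgroup Q → ℕ := fun K => Nat.card (D ⊓ fitIn K : Subgroup Q) with hw
  set f : Subgroup Q → ℕ := fun K => Nat.card (fitIn K) with hf
  set i : Subgroup Q → ℕ := fun K => K.index with hi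
  have hnum : ∀ K ∈ 𝒩, i K * f K = D.index * w K ∧ 2 * w K ≤ f K := by
    intro K hK
    obtain ⟨hle, hnle⟩ := hfac K hK
    have hDn : D ≤ Subgroup.normalizer (fitIn K : Set Q) :=
      (hDK K hK).trans (le_normalizer_fitIn K)
    have hKeq : fitIn K ⊔ D = K := le_antisymm (sup_le (fitIn_le K) (hDK K hK)) hle
    have hcard : Nat.card K * w K = f K * Nat.card D := by
      have h1 := ValueCriterion.card_sup_mul_card_inf hDn
      rwa [hKeq, inf_comm] at h1
    have hlt : w K ≠ f K := fun e => hnle (by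
      have h1 : D ⊓ fitIn K = fitIn K := Subgroup.eq_of_le_of_card_ge inf_le_right e.ge
      rw [← h1]; exact inf_le_left)
    obtain ⟨c, hc⟩ := Subgroup.card_dvd_of_le (inf_le_right : D ⊓ fitIn K ≤ fitIn K)
    have hc' : f K = w K * c := hc
    refine ⟨?_, ?_⟩
    · have h1 : i K * Nat.card K = D.index * Nat.card D := by
        rw [hi, Subgroup.index_mul_card, Subgroup.index_mul_card]
      have h2 : 0 < Nat.card D := Nat.card_pos
      refine Nat.eq_of_mul_eq_mul_right h2 ?_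
      calc i K * f K * Nat.card D = i K * (Nat.card K * w K) := by rw [hcard]; ring
        _ = (i K * Nat.card K) * w K := by ring
        _ = D.index * w K * Nat.card D := by rw [h1]; ring
    · have hpos : 0 < f K := Nat.card_pos
      rcases c with _ | _ | c
      · omega
      · omega
      · rw [hc']; nlinarith
  set Mx : Set Q := {m | m ∈ D ∧ m ≠ 1 ∧ ∀ K ∈ 𝒩, m ∉ fitIn K} with hMx
  -- the mixed elements have two components
  have hcomp : ∀ m ∈ D, m ≠ 1 → (∀ K ∈ 𝒩, m ∉ fitIn K) → ∃ e₁ e₂ : ℕ, ∃ K₁ K₂ : Subgroup Q,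
      PPow (m ^ e₁) ∧ PPow (m ^ e₂) ∧ Home (m ^ e₁) K₁ ∧ Home (m ^ e₂) K₂ ∧
      K₁ ∈ 𝒩 ∧ K₂ ∈ 𝒩 ∧ K₁ ≠ K₂ := by
    intro m hmD hm1 hmF
    obtain ⟨e₁, he₁⟩ := exists_ppow_pow hm1
    obtain ⟨K₁, hK₁⟩ := T.exists_home he₁.1
    have hK₁m : K₁ ∈ 𝒩 := (hmem K₁).mpr ⟨_, pow_mem hmD e₁, he₁, hK₁⟩
    obtain ⟨e₂, he₂, hne₂⟩ : ∃ e, PPow (m ^ e) ∧ m ^ e ∉ fitIn K₁ := by
      by_contra hc
      push Not at hc
      exact hmF K₁ hK₁m (mem_of_ppow_pow hc)
    obtain ⟨K₂, hK₂⟩ := T.exists_home he₂.1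
    refine ⟨e₁, e₂, K₁, K₂, he₁, he₂, hK₁, hK₂, hK₁m,
      (hmem K₂).mpr ⟨_, pow_mem hmD e₂, he₂, hK₂⟩, fun e => hne₂ ?_⟩
    exact e ▸ T.mem_fitIn_of_home' he₂ hK₂
  -- homes of the powers of an element of a Fitting subgroup
  have hFhome : ∀ K ∈ 𝒩, ∀ g y : Q, y ∈ fitIn K → ∀ e : ℕ, PPow ((g * y * g⁻¹) ^ e) →
      Home ((g * y * g⁻¹) ^ e) (MulAut.conj g • K) := by
    intro K hK g y hy e he
    rw [conj_pow] at he ⊢
    refine (T.home_of_mem_fitIn' ?_ (hcoat K hK) (pow_mem hy e)).smul g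
    have h1 := he.conj g⁻¹
    simpa [mul_assoc] using h1
  let Φ₁ : (Σ K : {K // K ∈ 𝒩}, (Q ⧸ K.1) × {y : Q // y ∈ fitIn K.1 ∧ y ≠ 1}) → Q :=
    fun a => a.2.1.out * (a.2.2 : Q) * a.2.1.out⁻¹
  let Φ₂ : (Q ⧸ D) × Mx → Q := fun a => a.1.out * (a.2 : Q) * a.1.out⁻¹
  let Φ := Sum.elim Φ₁ Φ₂
  have hΦ1 : ∀ a, Φ a ≠ 1 := by
    rintro (⟨K, q, y, hy, hy1⟩ | ⟨q, m, -, hm1, -⟩) <;> intro hc
    · exact hy1 (by simpa [Φ, Φ₁] using hc)
    · exact hm1 (by simpa [Φ, Φ₂] using hc)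
  have hΦ : Function.Injective Φ := by
    have h12 : ∀ a b, Φ₁ a ≠ Φ₂ b := by
      rintro ⟨⟨K, hK⟩, q, y, hy, hy1⟩ ⟨q', m, hmD, hm1, hmF⟩ hab
      obtain ⟨e₁, e₂, K₁, K₂, he₁, he₂, hK₁, hK₂, -, -, hK12⟩ := hcomp m hmD hm1 hmF
      refine hK12 ?_
      have key : ∀ e L, PPow (m ^ e) → Home (m ^ e) L →
          MulAut.conj q'.out • L = MulAut.conj q.out • K := by
        intro e L he hL
        refine T.home_unique (he.conj q'.out) (hL.smul q'.out) ?_
        have h1 : q'.out * m ^ e * q'.out⁻¹ = (q.out * y * q.out⁻¹) ^ e := by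
          rw [show q.out * y * q.out⁻¹ = q'.out * m * q'.out⁻¹ from hab, conj_pow]
        rw [h1]
        exact hFhome K hK _ y hy e (h1 ▸ he.conj q'.out)
      exact MulAction.injective (MulAut.conj q'.out)
        ((key e₁ K₁ he₁ hK₁).trans (key e₂ K₂ he₂ hK₂).symm)
    refine Function.Injective.sumElim ?_ ?_ h12
    · rintro ⟨⟨K, hK⟩, q, y, hy, hy1⟩ ⟨⟨K', hK'⟩, q', y', hy', hy1'⟩ hab
      obtain ⟨e, he⟩ := exists_ppow_pow (x := Φ₁ ⟨⟨K, hK⟩, q, y, hy, hy1⟩)
        (fun hc => hy1 (by simpa [Φ₁] using hc))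
      have h1 := hFhome K hK q.out y hy e he
      have h2 : Home ((q.out * y * q.out⁻¹) ^ e) (MulAut.conj q'.out • K') := by
        have hab' : q.out * y * q.out⁻¹ = q'.out * y' * q'.out⁻¹ := hab
        rw [hab']
        exact hFhome K' hK' q'.out y' hy' e (by rw [← hab']; exact he)
      have h3 := T.home_unique he h1 h2
      have h4 : MulAut.conj (q'.out⁻¹ * q.out) • K = K' := by
        rw [map_mul, mul_smul, h3, map_inv, inv_smul_smul]
      obtain rfl := hnconj K hK K' hK' _ h4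
      have h5 := (T.smul_eq_iff (hcoat K hK)).mp h4
      obtain rfl : q = q' := by
        rw [← QuotientGroup.out_eq' q, ← QuotientGroup.out_eq' q']
        exact (QuotientGroup.eq.mpr h5).symm
      obtain rfl : y = y' := mul_left_cancel (mul_right_cancel hab)
      rfl
    · rintro ⟨q, m, hmD, hm1, hmF⟩ ⟨q', m', hmD', hm1', hmF'⟩ hab
      obtain ⟨e₁, e₂, K₁, K₂, he₁, he₂, hK₁, hK₂, hK₁m, hK₂m, hK12⟩ := hcomp m hmD hm1 hmF
      have hab' : (q'.out⁻¹ * q.out) * m * (q'.out⁻¹ * q.out)⁻¹ = m' := by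
        have h1 : q.out * m * q.out⁻¹ = q'.out * m' * q'.out⁻¹ := hab
        calc _ = q'.out⁻¹ * (q.out * m * q.out⁻¹) * q'.out := by group
          _ = m' := by rw [h1]; group
      have key : ∀ e L, PPow (m ^ e) → Home (m ^ e) L → L ∈ 𝒩 → q'.out⁻¹ * q.out ∈ L := by
        intro e L he hL hLm
        have h1 := hL.smul (q'.out⁻¹ * q.out)
        have h2 : (q'.out⁻¹ * q.out) * m ^ e * (q'.out⁻¹ * q.out)⁻¹ = m' ^ e := by
          rw [← hab', conj_pow]
        rw [h2] at h1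
        refine (T.smul_eq_iff (hcoat L hLm)).mp (hnconj L hLm _ ?_ _ rfl).symm
        exact (hmem _).mpr ⟨_, pow_mem hmD' e, h2 ▸ he.conj _, h1⟩
      have h5 : q'.out⁻¹ * q.out ∈ D := by
        exact (hpair K₁ hK₁m K₂ hK₂m hK12).2.le
          ⟨key e₁ K₁ he₁ hK₁ hK₁m, key e₂ K₂ he₂ hK₂ hK₂m⟩
      obtain rfl : q = q' := by
        rw [← QuotientGroup.out_eq' q, ← QuotientGroup.out_eq' q']
        exact (QuotientGroup.eq.mpr h5).symm
      obtain rfl : m = m' := mul_left_cancel (mul_right_cancel hab)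
      rfl
  have hcount : Nat.card ((Σ K : {K // K ∈ 𝒩}, (Q ⧸ K.1) × {y : Q // y ∈ fitIn K.1 ∧ y ≠ 1}) ⊕
      ((Q ⧸ D) × Mx)) + 1 ≤ Nat.card Q := by
    have h1 := Nat.card_le_card_of_injective (fun a => (⟨Φ a, hΦ1 a⟩ : {y : Q // y ≠ 1}))
      fun a b e => hΦ (congrArg Subtype.val e)
    have h2 : Nat.card {y : Q // y ≠ 1} + 1 = Nat.card Q := by
      rw [← Finite.card_option]
      exact Nat.card_congr (Equiv.optionSubtypeNe (1 : Q))
    omega
  have hne1 : ∀ H : Subgroup Q, Nat.card {y : Q // y ∈ H ∧ y ≠ 1} + 1 = Nat.card H := by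
    intro H
    rw [← Finite.card_option]
    refine Nat.card_congr ((Equiv.optionCongr ?_).trans (Equiv.optionSubtypeNe (1 : H)))
    exact ⟨fun y => ⟨⟨y.1, y.2.1⟩, fun e => y.2.2 (congrArg Subtype.val e)⟩,
      fun y => ⟨y.1.1, y.1.2, fun e => y.2 (Subtype.ext e)⟩, fun _ => rfl, fun _ => rfl⟩
  rw [Nat.card_sum, Nat.card_sigma, Nat.card_prod, ← Subgroup.index_eq_card] at hcount
  have hterm : ∀ K : {K // K ∈ 𝒩},
      Nat.card ((Q ⧸ K.1) × {y : Q // y ∈ fitIn K.1 ∧ y ≠ 1}) + i K.1 = D.index * w K.1 ∧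
        2 * i K.1 ≤ D.index := by
    intro K
    obtain ⟨h1, h2⟩ := hnum K.1 K.2
    refine ⟨?_, ?_⟩
    · rw [Nat.card_prod, ← Subgroup.index_eq_card, ← h1]
      show i K.1 * _ + i K.1 = i K.1 * f K.1
      rw [← Nat.mul_succ, Nat.succ_eq_add_one, hne1]
    · have hpos : 0 < f K.1 := Nat.card_pos
      have h3 : 2 * i K.1 * f K.1 ≤ D.index * f K.1 := by
        calc 2 * i K.1 * f K.1 = D.index * (2 * w K.1) := by rw [mul_assoc, h1]; ring
          _ ≤ D.index * f K.1 := Nat.mul_le_mul_left _ h2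
      exact Nat.le_of_mul_le_mul_right h3 hpos
  have hsum1 := Finset.sum_congr (rfl : (Finset.univ : Finset {K // K ∈ 𝒩}) = _)
    fun K _ => (hterm K).1
  rw [Finset.sum_add_distrib, ← Finset.mul_sum, Finset.sum_coe_sort 𝒩 w,
    Finset.sum_coe_sort 𝒩 i] at hsum1
  have hsum2 : 2 * ∑ K ∈ 𝒩, i K ≤ 𝒩.card * D.index := by
    rw [Finset.mul_sum, ← smul_eq_mul (a := 𝒩.card), ← Finset.sum_const]
    exact Finset.sum_le_sum fun K hK => (hterm ⟨K, hK⟩).2
  have hD' : Nat.card D + 𝒩.card ≤ Nat.card Mx + 1 + ∑ K ∈ 𝒩, w K := by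
    let g : D → Option (Mx ⊕ Σ K : {K // K ∈ 𝒩}, {y : Q // y ∈ D ⊓ fitIn K.1 ∧ y ≠ 1}) := fun y =>
      if h1 : (y : Q) = 1 then none
      else if h2 : ∃ K ∈ 𝒩, (y : Q) ∈ fitIn K then
        some (Sum.inr ⟨⟨h2.choose, h2.choose_spec.1⟩, y, ⟨y.2, h2.choose_spec.2⟩, h1⟩)
      else some (Sum.inl ⟨y, y.2, h1, fun K hK hy => h2 ⟨K, hK, hy⟩⟩)
    let back : Option (Mx ⊕ Σ K : {K // K ∈ 𝒩}, {y : Q // y ∈ D ⊓ fitIn K.1 ∧ y ≠ 1}) → Q :=
      fun o => o.elim 1 (Sum.elim (fun a => (a : Q)) fun a => (a.2 : Q))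
    have hg : Function.Injective g := by
      have hb : ∀ y, back (g y) = (y : Q) := by
        intro y
        simp only [g]
        split_ifs with h1 h2
        · exact h1.symm
        · rfl
        · rfl
      exact fun a b e => Subtype.ext (by rw [← hb a, ← hb b, e])
    have h1 := Nat.card_le_card_of_injective g hg
    rw [Finite.card_option, Nat.card_sum, Nat.card_sigma] at h1
    have h2 : ∑ K : {K // K ∈ 𝒩}, Nat.card {y : Q // y ∈ D ⊓ fitIn K.1 ∧ y ≠ 1} + 𝒩.card
        = ∑ K ∈ 𝒩, w K := by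
      rw [← Finset.sum_coe_sort 𝒩 w, ← Fintype.card_coe, Fintype.card_eq_sum_ones,
        ← Finset.sum_add_distrib]
      exact Finset.sum_congr rfl fun K _ => hne1 _
    omega
  have hn : 2 ≤ 𝒩.card := Finset.one_lt_card.mpr ⟨M, hMN.1, N, hMN.2, hne⟩
  have hQ : D.index * Nat.card D = Nat.card Q := Subgroup.index_mul_card D
  nlinarith [hcount, hsum1, hsum2, hn, hQ, Nat.mul_le_mul_left D.index hD']

/-- The centraliser of a non-trivial element is nilpotent. -/
theorem isCNGroup : IsCNGroup Q := by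
  intro g hg
  obtain ⟨e, he⟩ := exists_ppow_pow hg
  obtain ⟨K, hK⟩ := T.exists_home he.1
  have hle : Subgroup.centralizer ({g} : Set Q) ≤ fitIn K := by
    intro y hy
    refine mem_of_ppow_pow fun j hj => ?_
    have hcomm : Commute (y ^ j) (g ^ e) :=
      (show Commute y g from Subgroup.mem_centralizer_singleton_iff.mp hy).pow_pow j e
    obtain ⟨K', hK'⟩ := T.exists_home hj.1
    obtain rfl := T.home_eq_of_commute hj he hcomm hK' hK
    exact T.mem_fitIn_of_home' hj hK'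
  haveI := isNilpotent_fitIn K
  exact Group.nilpotent_of_mulEquiv (Subgroup.subgroupOfEquivOfLe hle)

end TISetup

end Cfsg.Agent.Lib.ValueCriterion
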