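import Mathlib
import Cfsg.Agent.Lib.Transfer.Criteria

/-!
# Left-normed commutator values
-/

set_option autoImplicit false

namespace Cfsg.Agent.Lib.ValueCriterion

open scoped commutatorElement

universe u

variable {G : Type u} [Group G]

/-- `g` is a value of the left-normed commutator word of length `k + 1`. -/
def Val : ℕ → G → Prop
  | 0, _ => True
  | k + 1, g => ∃ a z : G, Val k a ∧ g = ⁅a, z⁆

theorem val_of_succ {k : ℕ} : ∀ {g : G}, Val (k + 1) g → Val k g := by
  induction k with
  | zero => intro g _; trivial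
  | succ k ih =>
    rintro g ⟨a, z, ha, rfl⟩
    exact ⟨a, z, ih ha, rfl⟩

theorem val_commutator {k : ℕ} {a : G} (z : G) (ha : Val k a) : Val k ⁅a, z⁆ :=
  val_of_succ ⟨a, z, ha, rfl⟩

theorem val_map {H : Type*} [Group H] (φ : G →* H) {k : ℕ} : ∀ {g : G}, Val k g → Val k (φ g) := by
  induction k with
  | zero => intro g _; trivial
  | succ k ih =>
    rintro g ⟨a, z, ha, rfl⟩
    exact ⟨φ a, φ z, ih ha, map_commutatorElement φ a z⟩

theorem val_exists_preimage {H : Type*} [Group H] {φ : G →* H} (hφ : Function.Surjective φ) {k : ℕ} :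
    ∀ {h : H}, Val k h → ∃ g : G, Val k g ∧ φ g = h := by
  induction k with
  | zero =>
    intro h _
    obtain ⟨g, hg⟩ := hφ h
    exact ⟨g, trivial, hg⟩
  | succ k ih =>
    rintro h ⟨a, z, ha, rfl⟩
    obtain ⟨a', ha', rfl⟩ := ih ha
    obtain ⟨z', rfl⟩ := hφ z
    exact ⟨⁅a', z'⁆, ⟨a', z', ha', rfl⟩, map_commutatorElement φ a' z'⟩

theorem val_conj {k : ℕ} {g : G} (c : G) (hg : Val k g) : Val k (c * g * c⁻¹) :=
  val_map (MulAut.conj c).toMonoidHom hg

theorem val_commutator' {k : ℕ} {x : G} (z : G) (hx : Val k x) : Val k ⁅z, x⁆ := by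
  have h := val_conj z (val_commutator z⁻¹ hx)
  convert h using 1
  simp only [commutatorElement_def]
  group

theorem val_iterate (t : G) {k : ℕ} : ∀ q : G, Val k ((fun c : G => ⁅c, t⁆)^[k] q) := by
  induction k with
  | zero => intro q; trivial
  | succ k ih =>
    intro q
    rw [Function.iterate_succ_apply']
    exact ⟨_, t, ih q, rfl⟩

theorem val_iff_foldl {k : ℕ} : ∀ {g : G}, Val k g ↔
    ∃ f : Fin (k + 1) → G,
      g = ((List.ofFn f).tail).foldl (fun a b => a * b * a⁻¹ * b⁻¹) (f 0) := by
  induction k with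
  | zero => intro g; exact ⟨fun _ => ⟨fun _ => g, by simp⟩, fun _ => trivial⟩
  | succ k ih =>
    intro g
    have key : ∀ (f : Fin (k + 1) → G) (z : G),
        ((List.ofFn (Fin.snoc f z : Fin (k + 2) → G)).tail).foldl
            (fun a b => a * b * a⁻¹ * b⁻¹) ((Fin.snoc f z : Fin (k + 2) → G) 0) =
          ⁅((List.ofFn f).tail).foldl (fun a b => a * b * a⁻¹ * b⁻¹) (f 0), z⁆ := by
      intro f z
      have h1 : List.ofFn (Fin.snoc f z : Fin (k + 2) → G) = List.ofFn f ++ [z] := by
        rw [List.ofFn_succ', List.concat_eq_append]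
        simp
      have h2 : (Fin.snoc f z : Fin (k + 2) → G) 0 = f 0 := by
        rw [show (0 : Fin (k + 2)) = Fin.castSucc 0 from rfl, Fin.snoc_castSucc]
      rw [h1, h2, List.tail_append_of_ne_nil (by simp), List.foldl_append]
      rfl
    constructor
    · rintro ⟨a, z, ha, rfl⟩
      obtain ⟨f, rfl⟩ := ih.mp ha
      exact ⟨Fin.snoc f z, (key f z).symm⟩
    · rintro ⟨f, rfl⟩
      refine ⟨_, f (Fin.last _), ih.mpr ⟨Fin.init f, rfl⟩, ?_⟩
      have := key (Fin.init f) (f (Fin.last _))
      rwa [Fin.snoc_init_self] at this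

theorem val_mem_lowerCentralSeries {k : ℕ} :
    ∀ {g : G}, Val k g → g ∈ (⊤ : Subgroup G).lowerCentralSeries k := by
  induction k with
  | zero => intro g _; rw [Subgroup.lowerCentralSeries_zero]; trivial
  | succ k ih =>
    rintro g ⟨a, z, ha, rfl⟩
    rw [Subgroup.lowerCentralSeries_succ]
    exact Subgroup.commutator_mem_commutator (ih ha) (Subgroup.mem_top z)

/-- The consequence of the order hypothesis that is inherited by subgroups. -/
def Good (k : ℕ) (G : Type u) [Group G] : Prop :=
  ∀ x z : G, Val k x → (orderOf ⁅z, x⁆).Coprime (orderOf x) → Commute z x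

theorem good_of_cond [Finite G] {k : ℕ}
    (h : ∀ x y : G, Val k x → Val k y → (orderOf x).Coprime (orderOf y) →
      (∀ r : ℕ, r.Prime → r ∣ orderOf x * orderOf y → r ∣ orderOf (x * y)) ∨
        orderOf x * orderOf y ≤ orderOf (x * y)) : Good k G := by
  intro x z hx hcop
  have hprod : ⁅z, x⁆ * x = MulAut.conj z x := by
    simp [commutatorElement_def]
  have ho : orderOf (⁅z, x⁆ * x) = orderOf x := by rw [hprod, MulEquiv.orderOf_eq]
  have h1 : orderOf ⁅z, x⁆ = 1 := by
    rcases h _ _ (val_commutator' z hx) hx hcop with hp | hle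
    · by_contra hne
      obtain ⟨r, hr, hrd⟩ := Nat.exists_prime_and_dvd hne
      have := hp r hr (hrd.mul_right _)
      rw [ho] at this
      exact hr.ne_one (Nat.eq_one_of_dvd_coprimes hcop hrd this)
    · rw [ho] at hle
      have := orderOf_pos x
      have := orderOf_pos ⁅z, x⁆
      nlinarith
  exact commutatorElement_eq_one_iff_mul_comm.mp (orderOf_eq_one_iff.mp h1)

theorem good_subgroup {k : ℕ} (hG : Good k G) (H : Subgroup G) : Good k H := by
  intro x z hx hcop
  have h := hG (x : G) (z : G) (val_map H.subtype hx) (by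
    rw [Subgroup.orderOf_coe, show ⁅(z : G), (x : G)⁆ = ((⁅z, x⁆ : H) : G) from
      (map_commutatorElement H.subtype z x).symm, Subgroup.orderOf_coe]
    exact hcop)
  exact Subtype.ext h.eq

/-- A value centralises every subgroup of coprime order that it normalises. -/
theorem Good.commute_of_normalizes [Finite G] {k : ℕ} (hG : Good k G) {x : G} (hx : Val k x)
    {R : Subgroup G} (hn : x ∈ Subgroup.normalizer (R : Set G))
    (hcop : (Nat.card R).Coprime (orderOf x)) {z : G} (hz : z ∈ R) : Commute z x := by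
  refine hG x z hx (hcop.coprime_dvd_left ?_)
  refine Subgroup.orderOf_dvd_natCard R ?_
  rw [commutatorElement_def, show z * x * z⁻¹ * x⁻¹ = z * (x * z⁻¹ * x⁻¹) by group]
  exact mul_mem hz ((Subgroup.mem_normalizer_iff.mp hn _).mp (inv_mem hz))

end Cfsg.Agent.Lib.ValueCriterion
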